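import Groth.Agent.Lib.Seesaw26.Functions
import Groth.Agent.Lib.BCCrit.Degree0
import Groth.Agent.Lib.ProjFormula.Iso
import Groth.Agent.Lib.LocFree8.Basic
import Groth.Agent.Lib.Euler.Coh
import Groth.Agent.Lib.RelProjK.Local

/-!
# `O_T = (f_T)_* O` universally
-/

set_option autoImplicit false
set_option linter.style.haveILetI false
set_option backward.isDefEq.respectTransparency false
set_option maxHeartbeats 1000000
universe u

noncomputable section

open CategoryTheory CategoryTheory.Limits AlgebraicGeometry Opposite TopologicalSpace MonoidalCategory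
open GrothLib.Ample

namespace GrothLib.Seesaw26

section Ring

variable {R B : Type u} [CommRing R] [CommRing B]

/-- A ring map making the target free of rank one is bijective. -/
theorem bijective_of_smul_bijective (φ : R →+* B) (e : B) (h : Function.Bijective fun r => φ r * e) :
    Function.Bijective φ := by
  obtain ⟨a, ha⟩ := h.2 1
  obtain ⟨b, hb⟩ := h.2 (e * e)
  have ha' : φ a * e = 1 := ha
  have hb' : φ b * e = e * e := hb
  have he : e = φ b := by
    calc e = e * e * φ a := by rw [mul_assoc, mul_comm e (φ a), ha', mul_one]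
      _ = φ b * (φ a * e) := by rw [← hb']; ring
      _ = φ b := by rw [ha', mul_one]
  have hab : a * b = 1 := h.1 (show φ (a * b) * e = φ 1 * e by rw [map_mul, ← he, ha', map_one])
  refine ⟨fun x y hxy => h.1 (congrArg (· * e) hxy), fun z => ?_⟩
  obtain ⟨r, hr⟩ := h.2 z
  exact ⟨r * b, by rw [map_mul, ← he]; exact hr⟩

end Ring

variable {X Y : Scheme.{u}} (f : X ⟶ Y)

/-- If `f_* O_X` is invertible then it is `O_Y`. -/
theorem bijective_app_of_invertible
    (h : PicF.IsInvertible ((Scheme.Modules.pushforward f).obj (Coh.structureModule X))) (U : Y.Opens) :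
    Function.Bijective (f.app U) := by
  haveI : IsIso (ClSub.unitToPush f) := (OX.isIso_iff _).2 fun y => by
    obtain ⟨V, e, hyV, he⟩ := InvExt.exists_gen_nhd h y
    refine ProjFormula.stalkIsoOn_of_bijective (U := V) (fun W hW => ?_) y hyV
    exact bijective_of_smul_bijective (f.app W).hom _ (he W hW)
  show Function.Bijective ((ClSub.unitToPush f).app U)
  exact (ConcreteCategory.isIso_iff_bijective _).1
    (Scheme.Modules.Hom.isIso_iff_isIso_app.1 (inferInstance : IsIso (ClSub.unitToPush f)) U)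

variable [IsProper f] [Flat f] [LocallyOfFinitePresentation f]

open BCCrit in
theorem epi_bc0_structure (y : Y) (h0 : Module.finrank (Y.residueField y) Γ(f.fiber y, ⊤) = 1) :
    Epi (CohBC.bc0 f (Y.fromSpecResidueField y) (f.fiberToSpecResidueField y) (f.fiberι y) (f.fiber_fac y)
      (Coh.structureModule X)) := by
  let κ := Y.residueField y
  let Z := f.fiber y
  let fs := f.fiberToSpecResidueField y
  haveI : Subsingleton ↥(Spec κ) := inferInstanceAs (Subsingleton (PrimeSpectrum κ))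
  let b := CohBC.bc0 f (Y.fromSpecResidueField y) fs (f.fiberι y) (f.fiber_fac y) (Coh.structureModule X)
  refine (epi_iff_surjective b (IsLocalRing.closedPoint κ)).2 fun w => ?_
  let i := OX.pullUnitIso (f.fiberι y)
  let O := Coh.structureModule X
  have e : (⊤ : (Spec κ).Opens) ≤ Y.fromSpecResidueField y ⁻¹ᵁ (⊤ : Y.Opens) := le_top
  have e' : fs ⁻¹ᵁ (⊤ : (Spec κ).Opens) ≤ (f.fiberι y) ⁻¹ᵁ (f ⁻¹ᵁ (⊤ : Y.Opens)) := le_top
  let one : Γ(O, f ⁻¹ᵁ (⊤ : Y.Opens)) := (1 : Γ(X, f ⁻¹ᵁ (⊤ : Y.Opens)))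
  let v := BCCoh.pullRes (f.fiberι y) O (f ⁻¹ᵁ ⊤) (fs ⁻¹ᵁ ⊤) e' one
  have hv : (show Γ(Z, fs ⁻¹ᵁ ⊤) from i.hom.app (fs ⁻¹ᵁ ⊤) v) = 1 := by
    refine (app_mres i.hom e' _).trans ?_
    refine (congrArg (InvExt.mres (Coh.structureModule Z) e')
      (ProjFormula.pullUnitIso_pullSec (f.fiberι y) (f ⁻¹ᵁ (⊤ : Y.Opens)) 1)).trans ?_
    rw [map_one]
    exact map_one (Z.presheaf.map (homOfLE e').op).hom
  have hi : Function.Bijective (i.hom.app (fs ⁻¹ᵁ ⊤)) := (ConcreteCategory.isIso_iff_bijective _).1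
    (Scheme.Modules.Hom.isIso_iff_isIso_app.1 (inferInstance : IsIso i.hom) _)
  let z : Γ(Z, ⊤) := i.hom.app (fs ⁻¹ᵁ ⊤) w
  obtain ⟨c, hc⟩ := (finrank_eq_one_iff_of_nonzero' (1 : Γ(Z, ⊤)) (fun h1 => by
    have : Subsingleton Γ(Z, ⊤) := subsingleton_of_zero_eq_one h1.symm
    rw [Module.finrank_zero_of_subsingleton] at h0
    exact zero_ne_one h0)).1 h0 z
  rw [Algebra.smul_def, mul_one] at hc
  let a : Γ(Spec κ, ⊤) := (Scheme.ΓSpecIso κ).inv c
  refine ⟨a • BCCoh.pullRes (Y.fromSpecResidueField y) ((Scheme.Modules.pushforward f).obj O) ⊤ ⊤ e one, ?_⟩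
  refine (app_smul b a _).trans ?_
  rw [bc0_pullRes (f.fiber_fac y) O ⊤ ⊤ e e' one]
  show fs.app ⊤ a • v = w
  apply hi.1
  refine (app_smul i.hom (fs.app ⊤ a : Γ(Z, fs ⁻¹ᵁ ⊤)) v).trans ?_
  refine (congrArg (fun q : Γ(Z, fs ⁻¹ᵁ ⊤) => fs.app ⊤ a * q) hv).trans ?_
  rw [mul_one]
  exact hc

open BCCrit in
theorem bijective_app_baseChange (h0 : ∀ y : Y, Module.finrank (Y.residueField y) Γ(f.fiber y, ⊤) = 1)
    {T : Scheme.{u}} (g : T ⟶ Y) (U : T.Opens) : Function.Bijective ((pullback.snd f g).app U) := by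
  let O := Coh.structureModule X
  haveI : O.IsQuasicoherent := InvExt.isQuasicoherent_of_isInvertible Euler.isInvertible_structure
  haveI : Coh.IsQCoh O := ‹O.IsQuasicoherent›
  have hFP : CohB1.IsFP O := LocFree8.isFP_of_isFinLocFree O (Euler.isFinLocFree_of_isInvertible Euler.isInvertible_structure)
  have hfl := isFlatOver_structure f
  have hgood : ∀ s : Y, GoodAll f O ((0 : ℕ) : ℤ) s := fun s =>
    (goodAll_iff_epi0 hFP hfl s).2 (epi_bc0_structure f s (h0 s))
  have hrank : ∀ s : Y, CohIII.fiberRank f O 0 s = 1 := fun s =>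
    fiberRank_eq_one f _ s (h0 s) ⟨PicLoc.pullbackStructureIso _⟩
  have hinv : PicF.IsInvertible ((Scheme.Modules.pushforward f).obj O) := fun s => by
    obtain ⟨V, n, hs, ⟨φ⟩, hn⟩ := exists_free_near0 hFP hfl s (hgood s)
    obtain rfl : n = 1 := (hn s hs).symm.trans (hrank s)
    exact ⟨V, hs, ⟨φ ≪≫ coproductUniqueIso fun _ : Fin 1 => Coh.structureModule (↑V)⟩⟩
  have hsq : IsPullback (pullback.fst f g) (pullback.snd f g) f g := IsPullback.of_hasPullback f g
  haveI := isIso_bc0_of_goodAll hFP hfl ⊤ (fun s _ => hgood s) hsq (fun _ => trivial)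
  refine bijective_app_of_invertible (pullback.snd f g) (RelProjK.isInvertible_of_iso ?_
    (Ample.isInvertible_pullback g hinv)) U
  exact ((Scheme.Modules.pushforward (pullback.snd f g)).mapIso (OX.pullUnitIso (pullback.fst f g))).symm ≪≫
    (asIso (CohBC.bc0 f g (pullback.snd f g) (pullback.fst f g) hsq.w O)).symm

end GrothLib.Seesaw26
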