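import Groth.Agent.Lib.FlatBC.TrivialDesc
import Groth.Agent.Lib.Cube.Pic
import Groth.Agent.Lib.UnitLF26.Basic
import Groth.Agent.Lib.Seesaw26.Universal

/-!
# Descending an invertible module which comes from the base after a faithfully flat base change
-/

set_option autoImplicit false
set_option linter.style.haveILetI false
set_option backward.isDefEq.respectTransparency false
set_option maxHeartbeats 1000000
universe u

noncomputable section

open CategoryTheory CategoryTheory.Limits AlgebraicGeometry Opposite TopologicalSpace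
open GrothLib.Ample

namespace GrothLib.Seesaw26

variable {X S S' : Scheme.{u}} (f : X ⟶ S) [QuasiCompact f] [QuasiSeparated f]

/-- `O = f_* O` is stable under flat base change. -/
theorem bijective_app_of_flat_baseChange (hf : ∀ U : S.Opens, Function.Bijective (f.app U))
    (g : S' ⟶ S) [Flat g] (U : S'.Opens) : Function.Bijective ((pullback.snd f g).app U) := by
  have H : IsPullback (pullback.fst f g) (pullback.snd f g) f g := IsPullback.of_hasPullback _ _
  haveI := FlatBC.qcoh_of_invertible (ParaPair.isInvertible_structure X)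
  haveI := FlatBC.isIso_bcMap H (Coh.structureModule X)
  obtain ⟨u⟩ := Ample.nonempty_pullback_structureModule (pullback.fst f g)
  obtain ⟨v⟩ := Ample.nonempty_pullback_structureModule g
  obtain ⟨w⟩ := FlatBC.nonempty_structure_iso_pushforward f hf
  refine bijective_app_of_invertible (pullback.snd f g)
    (ParaPair.isInvertible_of_iso ?_ (ParaPair.isInvertible_structure S')) U
  exact (Scheme.Modules.pushforward (pullback.snd f g)).mapIso u.symm ≪≫
    (asIso (AffBC.bcMap H (Coh.structureModule X))).symm ≪≫ (Scheme.Modules.pullback g).mapIso w.symm ≪≫ v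

variable (hf : ∀ U : S.Opens, Function.Bijective (f.app U)) (g : S' ⟶ S) [Flat g] [Surjective g] [QuasiCompact g]

include hf

/-- If the pullback comes from the base, so does the module. -/
theorem exists_base_of_flat_baseChange (L : X.Modules) (hL : PicF.IsInvertible L)
    (N' : S'.Modules) (hN' : PicF.IsInvertible N')
    (e : (Scheme.Modules.pullback (pullback.fst f g)).obj L ≅ (Scheme.Modules.pullback (pullback.snd f g)).obj N') :
    ∃ N : S.Modules, PicF.IsInvertible N ∧ Nonempty (L ≅ (Scheme.Modules.pullback f).obj N) := by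
  have H : IsPullback (pullback.fst f g) (pullback.snd f g) f g := IsPullback.of_hasPullback _ _
  haveI := FlatBC.qcoh_of_invertible hL
  haveI := FlatBC.isIso_bcMap H L
  haveI : ((Scheme.Modules.pushforward f).obj L).IsQuasicoherent := QCoh.isQuasicoherent_pushforward f L
  haveI := UnitLF26.isIso_unit (pullback.snd f g) (bijective_app_of_flat_baseChange f hf g)
    (Euler.isFinLocFree_of_isInvertible hN')
  let eM : (Scheme.Modules.pullback g).obj ((Scheme.Modules.pushforward f).obj L) ≅ N' :=
    asIso (AffBC.bcMap H L) ≪≫ (Scheme.Modules.pushforward (pullback.snd f g)).mapIso e ≪≫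
      (asIso ((UnitLF26.unitNat (pullback.snd f g)).app N')).symm
  have hM : PicF.IsInvertible ((Scheme.Modules.pushforward f).obj L) :=
    ParaPair.isInvertible_of_pullback g _ (ParaPair.isInvertible_of_iso eM hN')
  obtain ⟨c, ⟨a⟩⟩ := exists_cocycle hM
  let T := (Cube.inv c).twist 1
  have hT : PicF.IsInvertible T := (Cube.inv c).isInvertible_twist 1
  have hfT := Ample.isInvertible_pullback f hT
  let L₁ := CohB1.tensorMod L ((Scheme.Modules.pullback f).obj T)
  have hL₁ : PicF.IsInvertible L₁ := Ample.isInvertible_tensorMod hL hfT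
  have hMT : Cube.clsMod hM * Cube.clsMod hT = 1 := by
    rw [Cube.clsMod_eq hM a, Cube.clsMod_eq hT (Iso.refl _), mul_comm, ← Cube.cls_prod]
    exact Quotient.sound (Cube.eqv_prod_inv c)
  have hgM := (Cube.clsMod_eq_iff (Ample.isInvertible_pullback g hM) hN').2 ⟨eM⟩
  have hLe := (Cube.clsMod_eq_iff (Ample.isInvertible_pullback (pullback.fst f g) hL)
    (Ample.isInvertible_pullback (pullback.snd f g) hN')).2 ⟨e⟩
  rw [Cube.clsMod_pullback g hM] at hgM
  rw [Cube.clsMod_pullback _ hL, Cube.clsMod_pullback _ hN'] at hLe
  have htriv : Nonempty ((Scheme.Modules.pullback (pullback.fst f g)).obj L₁ ≅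
      Coh.structureModule (pullback f g)) := by
    refine (Cube.clsMod_eq_one_iff (Ample.isInvertible_pullback _ hL₁)).1 ?_
    rw [Cube.clsMod_pullback _ hL₁, Cube.clsMod_tensorMod hL hfT, map_mul, Cube.clsMod_pullback f hT,
      hLe, Cube.pull_comp, pullback.condition, ← Cube.pull_comp, ← hgM, ← map_mul, ← map_mul, hMT, map_one, map_one]
  haveI := FlatBC.isIso_counit f hf g L₁ hL₁ htriv
  have hN := FlatBC.isInvertible_pushforward f hf g L₁ hL₁ htriv
  refine ⟨_, Ample.isInvertible_tensorMod hN hM,
    (Cube.clsMod_eq_iff hL (Ample.isInvertible_pullback f (Ample.isInvertible_tensorMod hN hM))).1 ?_⟩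
  have h₁ := (Cube.clsMod_eq_iff (Ample.isInvertible_pullback f hN) hL₁).2
    ⟨asIso ((Scheme.Modules.pullbackPushforwardAdjunction f).counit.app L₁)⟩
  rw [Cube.clsMod_pullback f (Ample.isInvertible_tensorMod hN hM), Cube.clsMod_tensorMod hN hM, map_mul,
    ← Cube.clsMod_pullback f hN, h₁, Cube.clsMod_tensorMod hL hfT, Cube.clsMod_pullback f hT, mul_assoc,
    ← map_mul, mul_comm (Cube.clsMod hT), hMT, map_one, _root_.mul_one]

end GrothLib.Seesaw26
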