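import Groth.Agent.Lib.Seesaw26.Scheme

/-!
# With `H¹(O) = 0` on the fibres the locus of trivial fibres is open
-/

set_option autoImplicit false
set_option linter.style.haveILetI false
set_option backward.isDefEq.respectTransparency false
set_option maxHeartbeats 1000000
universe u

noncomputable section

open CategoryTheory CategoryTheory.Limits AlgebraicGeometry Opposite TopologicalSpace
open GrothLib.Ample

namespace GrothLib.Seesaw26

variable {X S : Scheme.{u}} (f : X ⟶ S) [IsProper f] [Flat f] [GeometricallyIntegral f]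
  [LocallyOfFinitePresentation f]

theorem fiberRank_eq_structure (L : X.Modules) (y : S)
    (h : Nonempty ((Scheme.Modules.pullback (f.fiberι y)).obj L ≅ Coh.structureModule (f.fiber y))) (p : ℕ) :
    CohIII.fiberRank f L p y = CohIII.fiberRank f (Coh.structureModule X) p y := by
  obtain ⟨i⟩ := h
  obtain ⟨e, he⟩ := BCCoh.exists_hh_equiv (B := S.residueField y) (f.fiberToSpecResidueField y)
    (i ≪≫ (PicLoc.pullbackStructureIso (f.fiberι y)).symm) p
  exact (e.toLinearEquiv he).finrank_eq

open BCCrit in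
theorem goodAll_of_h1_zero (L : X.Modules) (hL : PicF.IsInvertible L) (y : S)
    (h : Nonempty ((Scheme.Modules.pullback (f.fiberι y)).obj L ≅ Coh.structureModule (f.fiber y)))
    (h1 : CohIII.fiberRank f (Coh.structureModule X) 1 y = 0) :
    GoodAll f L ((0 : ℕ) : ℤ) y := by
  haveI : L.IsQuasicoherent := InvExt.isQuasicoherent_of_isInvertible hL
  have := (goodAll_of_fiberRank_eq_zero (f := f) (F := L) 1 y ((fiberRank_eq_structure f L y h 1).trans h1)).2
  rwa [show ((1 : ℕ) : ℤ) - 1 = ((0 : ℕ) : ℤ) by norm_num] at this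

open BCCrit in
theorem exists_open_fiberRank_one (L : X.Modules) (hL : PicF.IsInvertible L) (y : S)
    (h : Nonempty ((Scheme.Modules.pullback (f.fiberι y)).obj L ≅ Coh.structureModule (f.fiber y)))
    (h1 : CohIII.fiberRank f (Coh.structureModule X) 1 y = 0) :
    ∃ U : S.Opens, y ∈ U ∧ ∀ z ∈ U, CohIII.fiberRank f L 0 z = 1 := by
  haveI : L.IsQuasicoherent := InvExt.isQuasicoherent_of_isInvertible hL
  haveI : Coh.IsQCoh L := ‹L.IsQuasicoherent›
  have hF : CohB1.IsFP L := LocFree8.isFP_of_isFinLocFree _ (Euler.isFinLocFree_of_isInvertible hL)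
  obtain ⟨U, n, hy, -, hn⟩ := exists_free_near0 hF (isFlatOver_of_isInvertible f hL) y (goodAll_of_h1_zero f L hL y h h1)
  obtain rfl : n = 1 := (hn y hy).symm.trans (fiberRank_eq_one f L y (h0_of_geometricallyIntegral f y) h)
  exact ⟨U, hy, hn⟩

/-- The locus of trivial fibres is open. -/
theorem isOpen_trivial_fibres (h1 : ∀ y : S, CohIII.fiberRank f (Coh.structureModule X) 1 y = 0)
    (L : X.Modules) (hL : PicF.IsInvertible L) :
    IsOpen {y : S | Nonempty ((Scheme.Modules.pullback (f.fiberι y)).obj L ≅ Coh.structureModule (f.fiber y))} := by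
  obtain ⟨c, ⟨e⟩⟩ := exists_cocycle hL
  let M := (Cube.inv c).twist 1
  have hM : PicF.IsInvertible M := (Cube.inv c).isInvertible_twist 1
  have hLM : Cube.clsMod hL * Cube.clsMod hM = 1 := by
    rw [Cube.clsMod_eq hL e, Cube.clsMod_eq hM (Iso.refl _), mul_comm, ← Cube.cls_prod]
    exact Quotient.sound (Cube.eqv_prod_inv c)
  refine isOpen_iff_forall_mem_open.2 fun y hy => ?_
  have hy' : Nonempty ((Scheme.Modules.pullback (f.fiberι y)).obj M ≅ Coh.structureModule (f.fiber y)) := by
    refine (Cube.clsMod_eq_one_iff (Ample.isInvertible_pullback (f.fiberι y) hM)).1 ?_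
    have hP := congrArg (Cube.pull (f.fiberι y)) hLM
    rw [map_mul, map_one, ← Cube.clsMod_pullback (f.fiberι y) hL, ← Cube.clsMod_pullback (f.fiberι y) hM,
      (Cube.clsMod_eq_one_iff _).2 hy, _root_.one_mul] at hP
    exact hP
  obtain ⟨U, hU, hUr⟩ := exists_open_fiberRank_one f L hL y hy (h1 y)
  obtain ⟨V, hV, hVr⟩ := exists_open_fiberRank_one f M hM y hy' (h1 y)
  exact ⟨U ⊓ V, fun z hz => (trivial_iff_fiberRank f hL hM hLM z).1.2
    ⟨(hUr z hz.1).symm ▸ Nat.one_pos, (hVr z hz.2).symm ▸ Nat.one_pos⟩, (U ⊓ V).isOpen, hU, hV⟩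

/-- Trivial on one fibre over a connected base means pulled back from the base. -/
theorem exists_base_of_h1_zero [ConnectedSpace S]
    (h1 : ∀ y : S, CohIII.fiberRank f (Coh.structureModule X) 1 y = 0) (L : X.Modules) (hL : PicF.IsInvertible L)
    (y₀ : S) (h : Nonempty ((Scheme.Modules.pullback (f.fiberι y₀)).obj L ≅ Coh.structureModule (f.fiber y₀))) :
    ∃ N : S.Modules, PicF.IsInvertible N ∧ Nonempty (L ≅ (Scheme.Modules.pullback f).obj N) := by
  have hall := IsClopen.eq_univ
    ⟨isClosed_trivial_fibres f (isIntegral_fiber f) L hL, isOpen_trivial_fibres f h1 L hL⟩ ⟨y₀, h⟩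
  have htriv := fun y => hall.ge (Set.mem_univ y)
  haveI : L.IsQuasicoherent := InvExt.isQuasicoherent_of_isInvertible hL
  haveI : Coh.IsQCoh L := ‹L.IsQuasicoherent›
  have hF : CohB1.IsFP L := LocFree8.isFP_of_isFinLocFree _ (Euler.isFinLocFree_of_isInvertible hL)
  obtain ⟨N, hN, ⟨i⟩⟩ := exists_base_of_good f (h0_of_geometricallyIntegral f) L hL htriv fun y =>
    (BCCrit.goodAll_iff_epi0 hF (isFlatOver_of_isInvertible f hL) y).1
      (goodAll_of_h1_zero f L hL y (htriv y) (h1 y))
  exact ⟨N, hN, ⟨i.symm⟩⟩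

/-- Pullback of invertible modules from the base is injective. -/
theorem nonempty_iso_of_pullback_iso {N N' : S.Modules} (hN : PicF.IsInvertible N) (hN' : PicF.IsInvertible N')
    (h : Nonempty ((Scheme.Modules.pullback f).obj N ≅ (Scheme.Modules.pullback f).obj N')) : Nonempty (N ≅ N') := by
  obtain ⟨i⟩ := h
  have hf := bijective_app_of_invertible f (invertible_push_structure f (h0_of_geometricallyIntegral f))
  haveI := UnitLF26.isIso_unit f hf (Euler.isFinLocFree_of_isInvertible hN)
  haveI := UnitLF26.isIso_unit f hf (Euler.isFinLocFree_of_isInvertible hN')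
  exact ⟨asIso ((UnitLF26.unitNat f).app N) ≪≫ (Scheme.Modules.pushforward f).mapIso i ≪≫
    (asIso ((UnitLF26.unitNat f).app N')).symm⟩

end GrothLib.Seesaw26
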