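import Groth.Agent.Lib.Seesaw26.Functions
import Groth.Agent.Lib.UnitLF26.Basic
import Groth.Agent.Lib.Cube.AbVar
import Groth.Agent.Lib.Euler.Coh
import Groth.Agent.Lib.RelProjK.Local

/-!
# The seesaw theorem over a reduced base
-/

set_option autoImplicit false
set_option linter.style.haveILetI false
set_option backward.isDefEq.respectTransparency false
set_option maxHeartbeats 1000000
universe u

noncomputable section

open CategoryTheory CategoryTheory.Limits AlgebraicGeometry Opposite TopologicalSpace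
open GrothLib.Ample

namespace GrothLib.Seesaw26

variable {X Y : Scheme.{u}} (f : X ⟶ Y)

/-- A module pulled back from the base is trivial on each fibre. -/
theorem trivial_fibre_of_base {L : X.Modules} {M : Y.Modules} (hM : PicF.IsInvertible M)
    (e : (Scheme.Modules.pullback f).obj M ≅ L) (y : Y) :
    Nonempty ((Scheme.Modules.pullback (f.fiberι y)).obj L ≅ Coh.structureModule (f.fiber y)) := by
  have hP := Ample.isInvertible_pullback (f.fiberι y) (Ample.isInvertible_pullback f hM)
  have h : Cube.clsMod hP = 1 := by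
    rw [Cube.clsMod_pullback (f.fiberι y) (Ample.isInvertible_pullback f hM), Cube.clsMod_pullback f hM,
      Cube.pull_comp, f.fiber_fac y, ← Cube.pull_comp,
      show Cube.pull (Y.fromSpecResidueField y) (Cube.clsMod hM) = 1 from
        Cube.pic_spec_field_eq_one (F := Y.residueField y) _, map_one]
  obtain ⟨t⟩ := (Cube.clsMod_eq_one_iff hP).1 h
  exact ⟨((Scheme.Modules.pullback (f.fiberι y)).mapIso e).symm ≪≫ t⟩

variable [IsProper f] [Flat f] [IsLocallyNoetherian Y] [IsReduced Y]

/-- Seesaw: trivial on all fibres with one-dimensional functions means pulled back from the base. -/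
theorem exists_base (h0 : ∀ y : Y, Module.finrank (Y.residueField y) Γ(f.fiber y, ⊤) = 1)
    (L : X.Modules) (hL : PicF.IsInvertible L)
    (htriv : ∀ y : Y, Nonempty ((Scheme.Modules.pullback (f.fiberι y)).obj L ≅ Coh.structureModule (f.fiber y))) :
    ∃ M : Y.Modules, PicF.IsInvertible M ∧ Nonempty ((Scheme.Modules.pullback f).obj M ≅ L) := by
  obtain ⟨c, ⟨e⟩⟩ := exists_cocycle hL
  have hc : ∀ y, Cube.Triv (c.comap (f.fiberι y)) := fun y => by
    obtain ⟨g⟩ := c.nonempty_pullback_iso (f.fiberι y) e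
    obtain ⟨t⟩ := htriv y
    exact (Cube.triv_iff _).2 ⟨g.symm ≪≫ t⟩
  obtain ⟨M, hM, ⟨i⟩⟩ := PicDirect26.exists_base_of_local (bijective_app f h0) L fun s => by
    obtain ⟨U, hU, ⟨φ⟩⟩ := exists_nhd_gen f h0 c hc s
    exact ⟨U, hU, PicDirect26.exists_gen_of_pullback_ι
      ⟨(Scheme.Modules.pullback (f ⁻¹ᵁ U).ι).mapIso e ≪≫ φ⟩⟩
  exact ⟨M, hM, ⟨i.symm⟩⟩

theorem pushforward_invertible_and_counit (h0 : ∀ y : Y, Module.finrank (Y.residueField y) Γ(f.fiber y, ⊤) = 1)
    (L : X.Modules) (hL : PicF.IsInvertible L)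
    (htriv : ∀ y : Y, Nonempty ((Scheme.Modules.pullback (f.fiberι y)).obj L ≅ Coh.structureModule (f.fiber y))) :
    PicF.IsInvertible ((Scheme.Modules.pushforward f).obj L) ∧
      IsIso ((Scheme.Modules.pullbackPushforwardAdjunction f).counit.app L) := by
  obtain ⟨M, hM, ⟨i⟩⟩ := exists_base f h0 L hL htriv
  have hM' := Euler.isFinLocFree_of_isInvertible hM
  haveI := UnitLF26.isIso_unit f (bijective_app f h0) hM'
  refine ⟨RelProjK.isInvertible_of_iso
    (asIso ((UnitLF26.unitNat f).app M) ≪≫ (Scheme.Modules.pushforward f).mapIso i).symm hM,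
    ((UnitLF26.isPullback_iff f (bijective_app f h0) L).1 ⟨M, hM', ⟨i.symm⟩⟩).2⟩

/-- Two invertible modules isomorphic on every fibre differ by a module from the base. -/
theorem exists_iso_tensor_pullback (h0 : ∀ y : Y, Module.finrank (Y.residueField y) Γ(f.fiber y, ⊤) = 1)
    (L M : X.Modules) (hL : PicF.IsInvertible L) (hM : PicF.IsInvertible M)
    (hLM : ∀ y : Y, Nonempty ((Scheme.Modules.pullback (f.fiberι y)).obj L ≅
      (Scheme.Modules.pullback (f.fiberι y)).obj M)) :
    ∃ E : Y.Modules, PicF.IsInvertible E ∧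
      Nonempty (L ≅ CohB1.tensorMod M ((Scheme.Modules.pullback f).obj E)) := by
  obtain ⟨c, ⟨e⟩⟩ := exists_cocycle hL
  obtain ⟨d, ⟨e'⟩⟩ := exists_cocycle hM
  let q := (Cube.inv d).prod c
  have hq : ∀ y, Nonempty ((Scheme.Modules.pullback (f.fiberι y)).obj (q.twist 1) ≅
      Coh.structureModule (f.fiber y)) := fun y => by
    obtain ⟨g⟩ := q.nonempty_pullback_twist (f.fiberι y) 1
    have h : Cube.cls (q.comap (f.fiberι y)) = 1 := by
      have hLM' := (Cube.clsMod_eq_iff (Ample.isInvertible_pullback (f.fiberι y) hL)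
        (Ample.isInvertible_pullback (f.fiberι y) hM)).2 (hLM y)
      rw [Cube.clsMod_pullback (f.fiberι y) hL, Cube.clsMod_pullback (f.fiberι y) hM, Cube.clsMod_eq hL e,
        Cube.clsMod_eq hM e'] at hLM'
      rw [← Cube.pull_cls, Cube.cls_prod, map_mul, hLM', ← map_mul,
        show Cube.cls (Cube.inv d) * Cube.cls d = 1 by
          rw [← Cube.cls_prod]; exact Quotient.sound (Cube.eqv_prod_inv d), map_one]
    obtain ⟨t⟩ := (Cube.triv_iff _).1 (Cube.cls_eq_one_iff.1 h)
    exact ⟨g ≪≫ t⟩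
  have hqi : PicF.IsInvertible (q.twist 1) := q.isInvertible_twist 1
  obtain ⟨E, hE, ⟨i⟩⟩ := exists_base f h0 _ hqi hq
  refine ⟨E, hE, (Cube.clsMod_eq_iff hL
    (Ample.isInvertible_tensorMod hM (Ample.isInvertible_pullback f hE))).1 ?_⟩
  rw [Cube.clsMod_tensorMod hM (Ample.isInvertible_pullback f hE), (Cube.clsMod_eq_iff (Ample.isInvertible_pullback f hE) hqi).2 ⟨i⟩,
    Cube.clsMod_eq hqi (Iso.refl _), Cube.clsMod_eq hL e, Cube.clsMod_eq hM e', Cube.cls_prod, ← mul_assoc]
  have : Cube.cls d * Cube.cls (Cube.inv d) = 1 := by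
    rw [mul_comm, ← Cube.cls_prod]; exact Quotient.sound (Cube.eqv_prod_inv d)
  rw [this, _root_.one_mul]

end GrothLib.Seesaw26
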