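import Groth.Agent.Lib.Seesaw26.Local
import Groth.Agent.Lib.Cube.Seesaw
import Groth.Agent.Lib.Rigidity.Relative.Field
import Groth.Prelude.Def_PicLoc
import Groth.Agent.Lib.BCCrit.ModelExists
import Groth.Agent.Lib.LocFree8.Basic

/-!
# The locus where an invertible module is trivial on the fibres is closed
-/

set_option autoImplicit false
set_option linter.style.haveILetI false
set_option backward.isDefEq.respectTransparency false
set_option maxHeartbeats 1000000
universe u

noncomputable section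

open CategoryTheory CategoryTheory.Limits AlgebraicGeometry Opposite TopologicalSpace
open GrothLib.Ample

namespace GrothLib.Seesaw26

variable {X Y : Scheme.{u}} (f : X ⟶ Y) [IsProper f]

theorem fiberRank_pos_iff (c : Cocycle X) (y : Y) :
    0 < CohIII.fiberRank f (c.twist 1) 0 y ↔ ∃ a : (c.comap (f.fiberι y)).sect 1 ⊤, a ≠ 0 := by
  let κ := Y.residueField y
  letI : (f.fiber y).Over (Spec (CommRingCat.of κ)) := ⟨f.fiberToSpecResidueField y⟩
  haveI : IsProper ((f.fiber y) ↘ Spec (CommRingCat.of κ)) :=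
    inferInstanceAs (IsProper (pullback.snd f (Y.fromSpecResidueField y)))
  have hcoh : Coh.IsCoh ((Scheme.Modules.pullback (f.fiberι y)).obj (c.twist 1)) :=
    Euler.isCoh_of_isInvertible (Ample.isInvertible_pullback (f.fiberι y) (c.isInvertible_twist 1))
  haveI : Module.Finite κ (CohIII.fiberH f (c.twist 1) y 0) :=
    ProjCoh.moduleFinite_HH (X := f.fiber y) κ _ hcoh 0
  show 0 < Module.finrank κ (CohIII.fiberH f (c.twist 1) y 0) ↔ _
  rw [Module.finrank_pos_iff]
  obtain ⟨e⟩ := c.nonempty_pullback_twist (f.fiberι y) 1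
  let e₀ : CohIII.fiberH f (c.twist 1) y 0 ≃ (c.comap (f.fiberι y)).sect 1 ⊤ :=
    ((show Coh.HH (f.fiber y) ((Scheme.Modules.pullback (f.fiberι y)).obj (c.twist 1)) 0 ≃+
      Γ((Scheme.Modules.pullback (f.fiberι y)).obj (c.twist 1), ⊤) from
        Sheaf.H.equiv₀ (Coh.toAb _) (T := (⊤ : (f.fiber y).Opens)) isTerminalTop).toEquiv.trans
      (((SheafOfModules.toSheaf _ ⋙ sheafToPresheaf _ _ ⋙ (evaluation _ _).obj (op ⊤)).mapIso
        e).addCommGroupIsoToAddEquiv.toEquiv))
  rw [e₀.nontrivial_congr]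
  exact ⟨fun _ => exists_ne 0, fun ⟨a, ha⟩ => ⟨a, 0, ha⟩⟩

variable [Flat f] [LocallyOfFinitePresentation f]

/-- Upper semicontinuity of `h⁰` for a twist. -/
theorem isClosed_setOf_le_fiberRank_twist (c : Cocycle X) (n : ℕ) :
    IsClosed {y : Y | n ≤ CohIII.fiberRank f (c.twist 1) 0 y} := by
  refine isOpen_compl_iff.1 (isOpen_iff_forall_mem_open.2 fun y hy => ?_)
  obtain ⟨V, hV, hyV, -⟩ := exists_isAffineOpen_mem_and_subset (x := y) (U := (⊤ : Y.Opens)) trivial
  let L := c.twist 1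
  have hL : PicF.IsInvertible L := c.isInvertible_twist 1
  haveI : L.IsQuasicoherent := InvExt.isQuasicoherent_of_isInvertible hL
  haveI : IsProper (BCCoh.affBase f hV) := inferInstance
  obtain ⟨m⟩ := BCCrit.nonempty_model_affine_fp f hV L
    (LocFree8.isFP_of_isFinLocFree _ (Euler.isFinLocFree_of_isInvertible hL)) (Cube.flat_twist f c)
  have hopen : IsOpen {P : PrimeSpectrum Γ(Y, V) | CohIII.dRank m.L ((0 : ℕ) : ℤ) P < n} :=
    (FlatCx.upperSemicontinuous_dRank m.L (fun i =>
      haveI := (m.finFree i).2; ⟨(m.finFree i).1, inferInstance⟩) _).isOpen_preimage n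
  let W : Set Y := Subtype.val '' ((fun z : V => hV.primeIdealOf z) ⁻¹'
    {P : PrimeSpectrum Γ(Y, V) | CohIII.dRank m.L ((0 : ℕ) : ℤ) P < n})
  refine ⟨W, ?_, V.isOpen.isOpenMap_subtype_val _ (hopen.preimage hV.isoSpec.hom.continuous), ?_⟩
  · rintro _ ⟨z, hz, rfl⟩
    show ¬ (n ≤ CohIII.fiberRank f L 0 z.1)
    rw [m.fiberRank_affine f hV L 0 z.1 z.2, not_le]
    exact hz
  · refine ⟨⟨y, hyV⟩, ?_, rfl⟩
    show CohIII.dRank m.L ((0 : ℕ) : ℤ) _ < n
    rw [← m.fiberRank_affine f hV L 0 y hyV]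
    exact not_le.1 hy

/-- With integral fibres, the locus of trivial fibres is closed. -/
theorem isClosed_trivial_fibres (hint : ∀ y : Y, IsIntegral (f.fiber y)) (L : X.Modules) (hL : PicF.IsInvertible L) :
    IsClosed {y : Y | Nonempty ((Scheme.Modules.pullback (f.fiberι y)).obj L ≅ Coh.structureModule (f.fiber y))} := by
  obtain ⟨c, ⟨e⟩⟩ := exists_cocycle hL
  let d := Cube.inv c
  have h1 : Cube.cls d * Cube.cls c = 1 := by rw [← Cube.cls_prod]; exact Quotient.sound (Cube.eqv_prod_inv c)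
  have heq : {y : Y | Nonempty ((Scheme.Modules.pullback (f.fiberι y)).obj L ≅ Coh.structureModule (f.fiber y))} =
      {y | 1 ≤ CohIII.fiberRank f (c.twist 1) 0 y} ∩ {y | 1 ≤ CohIII.fiberRank f (d.twist 1) 0 y} := by
    ext y
    obtain ⟨g⟩ := c.nonempty_pullback_iso (f.fiberι y) e
    haveI := hint y
    rw [Set.mem_inter_iff, Set.mem_setOf_eq, Set.mem_setOf_eq, Set.mem_setOf_eq,
      Nat.one_le_iff_ne_zero, Nat.one_le_iff_ne_zero, ← Nat.pos_iff_ne_zero, ← Nat.pos_iff_ne_zero,
      fiberRank_pos_iff, fiberRank_pos_iff]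
    constructor
    · rintro ⟨t⟩
      have ht : Cube.Triv (c.comap (f.fiberι y)) := (Cube.triv_iff _).2 ⟨g.symm ≪≫ t⟩
      refine ⟨Cube.nontrivial_sections_of_triv ht, Cube.nontrivial_sections_of_triv ?_⟩
      rw [← Cube.cls_eq_one_iff, ← Cube.pull_cls] at ht ⊢
      have := congrArg (Cube.pull (f.fiberι y)) h1
      rwa [map_mul, ht, map_one, _root_.mul_one] at this
    · rintro ⟨hc, hd⟩
      haveI : UniversallyClosed (f.fiberToSpecResidueField y) :=
        MorphismProperty.pullback_snd f (Y.fromSpecResidueField y) inferInstance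
      obtain ⟨t⟩ := (Cube.triv_iff _).1 (Cube.triv_of_sections
        (Rigidity.isField_appTop_of_universallyClosed (K := Y.residueField y) (f.fiberToSpecResidueField y))
        (c.comap (f.fiberι y)) (d.comap (f.fiberι y))
        (by rw [← Cube.pull_cls, ← Cube.pull_cls, ← map_mul, h1, map_one]) hc hd)
      exact ⟨g ≪≫ t⟩
  rw [heq]
  exact (isClosed_setOf_le_fiberRank_twist f c 1).inter (isClosed_setOf_le_fiberRank_twist f d 1)

end GrothLib.Seesaw26
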