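import Groth.Agent.Lib.Seesaw26.Universal
import Groth.Agent.Lib.Seesaw26.LocalGood
import Groth.Agent.Lib.Seesaw26.Main
import Groth.Agent.Lib.Seesaw26.TrivLocus
import Groth.Agent.Lib.OX.TensorAssoc
import Groth.Agent.Lib.OX.LocFreeTensor

/-!
# Pullbacks from the base through base change in degree zero
-/

set_option autoImplicit false
set_option linter.style.haveILetI false
set_option backward.isDefEq.respectTransparency false
set_option maxHeartbeats 1000000
universe u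

noncomputable section

open CategoryTheory CategoryTheory.Limits AlgebraicGeometry Opposite TopologicalSpace MonoidalCategory
open GrothLib.Ample
open GrothLib.InvExt (mres IsGen)

namespace GrothLib.Seesaw26

/-- The pullback of a generator generates. -/
theorem isGen_pullRes {X X' : Scheme.{u}} (q : X' ⟶ X) {L : X.Modules} (hL : PicF.IsInvertible L) {V : X.Opens}
    {e : Γ(L, V)} (he : IsGen L V e) (V' : X'.Opens) (h : V' ≤ q ⁻¹ᵁ V) :
    IsGen ((Scheme.Modules.pullback q).obj L) V' (BCCoh.pullRes q L V V' h e) := by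
  obtain ⟨c, ⟨φ⟩⟩ := exists_cocycle hL
  let η := (Scheme.Modules.pullbackPushforwardAdjunction q).unit
  let θ := (Scheme.Modules.pullback q).map φ.inv
  haveI := c.isIso_pullHom q 1
  suffices hgen : IsGen ((Scheme.Modules.pullback q).obj L) (q ⁻¹ᵁ V) ((η.app L).app V e) from hgen.restrict h
  have hcov : q ⁻¹ᵁ V ≤ ⨆ i, q ⁻¹ᵁ (V ⊓ c.D i) := fun x hx => by
    obtain ⟨i, hi⟩ := c.exists_mem (q x)
    exact Opens.mem_iSup.2 ⟨i, ⟨hx, hi⟩⟩
  refine InvExt.isGen_of_cover (fun i => q ⁻¹ᵁ (V ⊓ c.D i)) (fun i => q.preimage_mono inf_le_left) hcov fun i => ?_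
  let b : Γ(L, V ⊓ c.D i) := φ.inv.app (V ⊓ c.D i) (c.base 1 i inf_le_right)
  have hb : IsGen L (V ⊓ c.D i) b := InvExt.IsGen.map φ.inv (c.isGen_base 1 i inf_le_right) fun W _ =>
    ConcreteCategory.bijective_of_isIso (φ.inv.app W)
  have he' := he.restrict (W := V ⊓ c.D i) inf_le_left
  obtain ⟨r, hr⟩ := hb.exists_smul_eq le_rfl (mres L inf_le_left e)
  obtain ⟨r', hr'⟩ := he'.exists_smul_eq le_rfl b
  rw [InvExt.mres_self] at hr hr'
  have hu : IsUnit r := by
    refine IsUnit.of_mul_eq_one r' ((he' _ le_rfl).1 ?_)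
    show (r * r') • mres L le_rfl (mres L inf_le_left e) = (1 : Γ(X, V ⊓ c.D i)) • mres L le_rfl (mres L inf_le_left e)
    rw [InvExt.mres_self, mul_smul, ← hr', ← hr, one_smul]
  have key : mres ((Scheme.Modules.pullback q).obj L) (q.preimage_mono inf_le_left) ((η.app L).app V e) =
      (q.app (V ⊓ c.D i) r : Γ(X', q ⁻¹ᵁ (V ⊓ c.D i))) • (show Γ((Scheme.Modules.pullback q).obj L, q ⁻¹ᵁ (V ⊓ c.D i)) from (η.app L).app (V ⊓ c.D i) b) := by
    refine (app_mres (η.app L) (inf_le_left : V ⊓ c.D i ≤ V) e).symm.trans ?_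
    refine (congrArg ((η.app L).app (V ⊓ c.D i)) hr).trans ?_
    exact app_smul (η.app L) r b
  have hgb : IsGen ((Scheme.Modules.pullback q).obj L) (q ⁻¹ᵁ (V ⊓ c.D i)) ((η.app L).app (V ⊓ c.D i) b) := by
    have h1 : IsGen ((Scheme.Modules.pullback q).obj (c.twist 1)) (q ⁻¹ᵁ c.D i) (c.pullBase q 1 i) := by
      rw [← c.pullHom_base q 1 i]
      exact InvExt.IsGen.map (c.pullHom q 1) ((c.comap q).isGen_base 1 i le_rfl) fun W _ =>
        ConcreteCategory.bijective_of_isIso ((c.pullHom q 1).app W)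
    have h2 := InvExt.IsGen.map θ (h1.restrict (W := q ⁻¹ᵁ (V ⊓ c.D i)) (q.preimage_mono inf_le_right)) fun W _ =>
      ConcreteCategory.bijective_of_isIso (θ.app W)
    have e1 : mres ((Scheme.Modules.pullback q).obj (c.twist 1)) (q.preimage_mono inf_le_right) (c.pullBase q 1 i) =
        (η.app (c.twist 1)).app (V ⊓ c.D i) (c.base 1 i inf_le_right) :=
      c.mres_pullBase q 1 i inf_le_right
    rw [e1] at h2
    have e2 := congrArg (fun g : c.twist 1 ⟶ _ => g.app (V ⊓ c.D i) (c.base 1 i inf_le_right)) (η.naturality φ.inv)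
    have e3 : θ.app (q ⁻¹ᵁ (V ⊓ c.D i)) ((η.app (c.twist 1)).app (V ⊓ c.D i) (c.base 1 i inf_le_right)) =
        (η.app L).app (V ⊓ c.D i) b := e2.symm
    rwa [e3] at h2
  rw [key]
  intro W hW
  have hu' : IsUnit (res hW (q.app (V ⊓ c.D i) r : Γ(X', q ⁻¹ᵁ (V ⊓ c.D i)))) := (hu.map (q.app _).hom).map _
  have := (hgb W hW).comp (IsUnit.isUnit_iff_mulRight_bijective.1 hu')
  refine (congrArg Function.Bijective (funext fun a => ?_)).mp this
  show (a * res hW _) • mres _ hW _ = a • mres _ hW (_ • _)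
  rw [InvExt.mres_smul, mul_smul]

/-- A tensor inverse of an invertible module is invertible. -/
theorem isInvertible_of_tensor_iso {X : Scheme.{u}} {L M : X.Modules}
    (e : CohB1.tensorMod L M ≅ Coh.structureModule X) (hL : PicF.IsInvertible L) : PicF.IsInvertible M := by
  obtain ⟨c, ⟨i⟩⟩ := exists_cocycle hL
  let T := (Cube.inv c).twist 1
  have hT : PicF.IsInvertible T := (Cube.inv c).isInvertible_twist 1
  obtain ⟨t⟩ := (Cube.clsMod_eq_one_iff (Ample.isInvertible_tensorMod hT hL)).1 (by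
    rw [Cube.clsMod_tensorMod hT hL, Cube.clsMod_eq hT (Iso.refl _), Cube.clsMod_eq hL i, ← Cube.cls_prod]
    exact Quotient.sound (Cube.eqv_prod_inv c))
  let B := DCoh.tensorBi (X := X)
  let φ : M ≅ (B.obj T).obj (Coh.structureModule X) :=
    (OX.tensorUnitLeftIso M).symm ≪≫ (B.mapIso t.symm).app M ≪≫
      ((OX.tensorAssocNatIso.app T).app L).app M ≪≫ (B.obj T).mapIso e
  exact RelProjK.isInvertible_of_iso φ (Ample.isInvertible_tensorMod hT Euler.isInvertible_structure)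

variable {X S : Scheme.{u}} (f : X ⟶ S) [IsProper f]

open BCCrit in
theorem epi_bc0_of_gen [Flat f] (L : X.Modules) (hL : PicF.IsInvertible L) (y : S)
    (h0 : Module.finrank (S.residueField y) Γ(f.fiber y, ⊤) = 1) (U : S.Opens) (hy : y ∈ U)
    (e₀ : Γ(L, f ⁻¹ᵁ U)) (he₀ : IsGen L (f ⁻¹ᵁ U) e₀) :
    Epi (CohBC.bc0 f (S.fromSpecResidueField y) (f.fiberToSpecResidueField y) (f.fiberι y) (f.fiber_fac y) L) := by
  let κ := S.residueField y
  let Z := f.fiber y
  let fs := f.fiberToSpecResidueField y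
  haveI : Subsingleton ↥(Spec κ) := inferInstanceAs (Subsingleton (PrimeSpectrum κ))
  let b := CohBC.bc0 f (S.fromSpecResidueField y) fs (f.fiberι y) (f.fiber_fac y) L
  refine (epi_iff_surjective b (IsLocalRing.closedPoint κ)).2 fun w => ?_
  have e : (⊤ : (Spec κ).Opens) ≤ S.fromSpecResidueField y ⁻¹ᵁ U := fun z _ => by
    show S.fromSpecResidueField y z ∈ U
    rw [Scheme.fromSpecResidueField_apply]
    exact hy
  have e' : fs ⁻¹ᵁ (⊤ : (Spec κ).Opens) ≤ (f.fiberι y) ⁻¹ᵁ (f ⁻¹ᵁ U) := fun z _ => by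
    show f (f.fiberι y z) ∈ U
    rw [show f (f.fiberι y z) = y from (f.range_fiberι y).le ⟨z, rfl⟩]
    exact hy
  obtain ⟨z, hz⟩ := ((isGen_pullRes (f.fiberι y) hL he₀ (fs ⁻¹ᵁ ⊤) e') _ le_rfl).2 w
  let z' : Γ(Z, ⊤) := z
  obtain ⟨a₀, ha₀⟩ := (finrank_eq_one_iff_of_nonzero' (1 : Γ(Z, ⊤)) (fun h1 => by
    have : Subsingleton Γ(Z, ⊤) := subsingleton_of_zero_eq_one h1.symm
    rw [Module.finrank_zero_of_subsingleton] at h0
    exact zero_ne_one h0)).1 h0 z'
  rw [Algebra.smul_def, mul_one] at ha₀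
  let a : Γ(Spec κ, ⊤) := (Scheme.ΓSpecIso κ).inv a₀
  refine ⟨a • BCCoh.pullRes (S.fromSpecResidueField y) ((Scheme.Modules.pushforward f).obj L) U ⊤ e e₀, ?_⟩
  refine (app_smul b a _).trans ?_
  rw [bc0_pullRes (f.fiber_fac y) L U ⊤ e e' e₀]
  show fs.app ⊤ a • BCCoh.pullRes (f.fiberι y) L (f ⁻¹ᵁ U) (fs ⁻¹ᵁ ⊤) e' e₀ = w
  rw [show fs.app ⊤ a = z from ha₀, ← hz]
  simp only [InvExt.mres_self]

theorem exists_gen_preimage_of_base {L : X.Modules} {M : S.Modules} (hM : PicF.IsInvertible M)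
    (i : (Scheme.Modules.pullback f).obj M ≅ L) (y : S) :
    ∃ U : S.Opens, y ∈ U ∧ ∃ e : Γ(L, f ⁻¹ᵁ U), IsGen L (f ⁻¹ᵁ U) e := by
  obtain ⟨U, e, hy, he⟩ := InvExt.exists_gen_nhd hM y
  exact ⟨U, hy, _, InvExt.IsGen.map i.hom (isGen_pullRes f hM he (f ⁻¹ᵁ U) le_rfl) fun W _ =>
    ConcreteCategory.bijective_of_isIso (i.hom.app W)⟩

variable [Flat f] [LocallyOfFinitePresentation f]

open BCCrit in
theorem invertible_push_structure (h0 : ∀ y : S, Module.finrank (S.residueField y) Γ(f.fiber y, ⊤) = 1) :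
    PicF.IsInvertible ((Scheme.Modules.pushforward f).obj (Coh.structureModule X)) := fun s => by
  let O := Coh.structureModule X
  haveI : O.IsQuasicoherent := InvExt.isQuasicoherent_of_isInvertible Euler.isInvertible_structure
  haveI : Coh.IsQCoh O := ‹O.IsQuasicoherent›
  have hFP : CohB1.IsFP O :=
    LocFree8.isFP_of_isFinLocFree O (Euler.isFinLocFree_of_isInvertible Euler.isInvertible_structure)
  obtain ⟨V, n, hs, ⟨φ⟩, hn⟩ := exists_free_near0 hFP (isFlatOver_structure f) s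
    ((goodAll_iff_epi0 hFP (isFlatOver_structure f) s).2 (epi_bc0_structure f s (h0 s)))
  obtain rfl : n = 1 := (hn s hs).symm.trans (fiberRank_eq_one f _ s (h0 s) ⟨PicLoc.pullbackStructureIso _⟩)
  exact ⟨V, hs, ⟨φ ≪≫ coproductUniqueIso fun _ : Fin 1 => Coh.structureModule (↑V)⟩⟩

open BCCrit in
theorem exists_base_of_good (h0 : ∀ y : S, Module.finrank (S.residueField y) Γ(f.fiber y, ⊤) = 1)
    (L : X.Modules) (hL : PicF.IsInvertible L)
    (htriv : ∀ y : S, Nonempty ((Scheme.Modules.pullback (f.fiberι y)).obj L ≅ Coh.structureModule (f.fiber y)))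
    (hepi : ∀ s : S, Epi (CohBC.bc0 f (S.fromSpecResidueField s) (f.fiberToSpecResidueField s) (f.fiberι s)
      (f.fiber_fac s) L)) :
    ∃ M : S.Modules, PicF.IsInvertible M ∧ Nonempty ((Scheme.Modules.pullback f).obj M ≅ L) := by
  obtain ⟨c, ⟨e⟩⟩ := exists_cocycle hL
  have hc : ∀ y, Cube.Triv (c.comap (f.fiberι y)) := fun y => by
    obtain ⟨g⟩ := c.nonempty_pullback_iso (f.fiberι y) e
    obtain ⟨t⟩ := htriv y
    exact (Cube.triv_iff _).2 ⟨g.symm ≪≫ t⟩
  haveI : L.IsQuasicoherent := InvExt.isQuasicoherent_of_isInvertible hL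
  haveI : Coh.IsQCoh L := ‹L.IsQuasicoherent›
  have hFP : CohB1.IsFP L := LocFree8.isFP_of_isFinLocFree _ (Euler.isFinLocFree_of_isInvertible hL)
  have hgood : ∀ s, GoodAll f L ((0 : ℕ) : ℤ) s := fun s =>
    (goodAll_iff_epi0 hFP (isFlatOver_of_isInvertible f hL) s).2 (hepi s)
  obtain ⟨M, hM, ⟨i⟩⟩ := PicDirect26.exists_base_of_local
      (bijective_app_of_invertible f (invertible_push_structure f h0)) L fun s => by
    obtain ⟨U, hU, ⟨φ⟩⟩ := exists_nhd_gen_of_good f h0 c e hc s (hgood s)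
    exact ⟨U, hU, PicDirect26.exists_gen_of_pullback_ι
      ⟨(Scheme.Modules.pullback (f ⁻¹ᵁ U).ι).mapIso e ≪≫ φ⟩⟩
  exact ⟨M, hM, ⟨i.symm⟩⟩

omit [Flat f] [LocallyOfFinitePresentation f] in
theorem exists_sect_of_nontrivial {L : X.Modules} {c : Cocycle X} (e : L ≅ c.twist 1) (s : S)
    (h : Nontrivial (CohIII.fiberH f L s 0)) : ∃ a : (c.comap (f.fiberι s)).sect 1 ⊤, a ≠ 0 := by
  obtain ⟨i⟩ := c.nonempty_pullback_iso (f.fiberι s) e
  let e₀ : CohIII.fiberH f L s 0 ≃ (c.comap (f.fiberι s)).sect 1 ⊤ :=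
    ((show Coh.HH (f.fiber s) ((Scheme.Modules.pullback (f.fiberι s)).obj L) 0 ≃+
      Γ((Scheme.Modules.pullback (f.fiberι s)).obj L, ⊤) from
        Sheaf.H.equiv₀ (Coh.toAb _) (T := (⊤ : (f.fiber s).Opens)) isTerminalTop).toEquiv.trans
      (((SheafOfModules.toSheaf _ ⋙ sheafToPresheaf _ _ ⋙ (evaluation _ _).obj (op ⊤)).mapIso
        i).addCommGroupIsoToAddEquiv.toEquiv))
  haveI : Nontrivial ((c.comap (f.fiberι s)).sect 1 ⊤) := e₀.symm.nontrivial
  exact exists_ne 0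

omit [IsProper f] [Flat f] [LocallyOfFinitePresentation f] in
/-- The inverse of a module from the base comes from the base. -/
theorem exists_inv_base {L M : X.Modules} {L₀ : S.Modules} (hL : PicF.IsInvertible L) (hM : PicF.IsInvertible M)
    (hL₀ : PicF.IsInvertible L₀) (hi : Nonempty (L ≅ (Scheme.Modules.pullback f).obj L₀))
    (h : Cube.clsMod hL * Cube.clsMod hM = 1) :
    ∃ N : S.Modules, PicF.IsInvertible N ∧ Nonempty (M ≅ (Scheme.Modules.pullback f).obj N) := by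
  obtain ⟨c, ⟨e⟩⟩ := exists_cocycle hL₀
  have hN := (Cube.inv c).isInvertible_twist 1
  refine ⟨_, hN, (Cube.clsMod_eq_iff hM (Ample.isInvertible_pullback f hN)).1 ?_⟩
  rw [(Cube.clsMod_eq_iff hL (Ample.isInvertible_pullback f hL₀)).2 hi, Cube.clsMod_pullback f hL₀,
    Cube.clsMod_eq hL₀ e] at h
  rw [Cube.clsMod_pullback f hN, Cube.clsMod_eq hN (Iso.refl _)]
  have h1 : Cube.pull f (Cube.cls (Cube.inv c)) * Cube.pull f (Cube.cls c) = 1 := by
    rw [← map_mul, ← Cube.cls_prod, show Cube.cls ((Cube.inv c).prod c) = 1 from Quotient.sound (Cube.eqv_prod_inv c),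
      map_one]
  calc Cube.clsMod hM = Cube.pull f (Cube.cls (Cube.inv c)) * Cube.pull f (Cube.cls c) * Cube.clsMod hM := by
        rw [h1, _root_.one_mul]
    _ = _ := by rw [mul_assoc, h, _root_.mul_one]

end GrothLib.Seesaw26
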