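import Groth.Agent.Lib.Cube.FieldSections
import Groth.Agent.Lib.Rigidity.Relative.FibreConst
import Groth.Prelude.Def_ega3

/-!
# Functions on geometrically connected and reduced proper schemes over fields
-/

set_option autoImplicit false
set_option linter.style.haveILetI false
set_option backward.isDefEq.respectTransparency false
universe u

noncomputable section

open CategoryTheory CategoryTheory.Limits AlgebraicGeometry Opposite TopologicalSpace TensorProduct

namespace GrothLib.Seesaw26

open GrothLib.Cube (cst)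

theorem bijective_cst_of_isAlgClosed {L : Type u} [Field L] [IsAlgClosed L] {Z : Scheme.{u}}
    [ConnectedSpace Z] [IsReduced Z] (q : Z ⟶ Spec (CommRingCat.of L)) [UniversallyClosed q] :
    Function.Bijective (cst q ⊤) := by
  have hint : ((Scheme.ΓSpecIso (CommRingCat.of L)).inv ≫ q.appTop).hom.IsIntegral := by
    apply RingHom.isIntegral_respectsIso.2 (e := (Scheme.ΓSpecIso _).symm.commRingCatIsoToRingEquiv)
    exact isIntegral_appTop_of_universallyClosed q
  letI := (Rigidity.isField_appTop_of_universallyClosed q).toField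
  have hc : cst q ⊤ = ((Scheme.ΓSpecIso (CommRingCat.of L)).inv ≫ q.appTop).hom := by
    ext r
    simp [cst, Scheme.Hom.appLE]
  rw [hc]
  letI := ((Scheme.ΓSpecIso (CommRingCat.of L)).inv ≫ q.appTop).hom.toAlgebra
  haveI : Algebra.IsIntegral L Γ(Z, ⊤) := ⟨hint⟩
  exact IsAlgClosed.algebraMap_bijective_of_isIntegral

/-- `Γ(Z, O) = k` for `Z / k` universally closed, geometrically connected and geometrically reduced. -/
theorem finrank_functions_eq_one {K : Type u} [Field K] {Z : Scheme.{u}} (p : Z ⟶ Spec (CommRingCat.of K))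
    [UniversallyClosed p] [QuasiSeparated p] [GeometricallyConnected p] [GeometricallyReduced p] :
    (letI := (p.appTop.hom.comp (Scheme.ΓSpecIso (CommRingCat.of K)).inv.hom).toAlgebra;
      Module.finrank K Γ(Z, ⊤)) = 1 := by
  letI := (p.appTop.hom.comp (Scheme.ΓSpecIso (CommRingCat.of K)).inv.hom).toAlgebra
  let L := AlgebraicClosure K
  let φ : Spec (CommRingCat.of L) ⟶ Spec (CommRingCat.of K) :=
    Spec.map (CommRingCat.ofHom (algebraMap K L))
  let Z' := pullback p φ
  let g : Z' ⟶ Z := pullback.fst p φ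
  let q : Z' ⟶ Spec (CommRingCat.of L) := pullback.snd p φ
  have H : IsPullback g q p φ := IsPullback.of_hasPullback p φ
  haveI : ConnectedSpace ↥Z' :=
    pullback_of_geometrically GeometricallyConnected.geometrically_connectedSpace _ φ
  haveI : IsReduced Z' :=
    pullback_of_geometrically GeometricallyReduced.geometrically_isReduced _ φ
  have hq : Function.Bijective (cst q ⊤) := bijective_cst_of_isAlgClosed q
  haveI : CompactSpace Z := QuasiCompact.compactSpace_of_compactSpace p
  haveI : QuasiSeparatedSpace Z := quasiSeparatedSpace_of_quasiSeparated p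
  haveI : Flat φ := by
    rw [HasRingHomProperty.Spec_iff (P := @Flat)]
    exact RingHom.flat_algebraMap_iff.mpr inferInstance
  have hP : IsPushout (p.appLE ⊤ ⊤ le_top) (φ.appLE ⊤ ⊤ le_top) (g.appLE ⊤ ⊤ le_top) (q.appLE ⊤ ⊤ le_top) :=
    (AlgebraicGeometry.isIso_pushoutSection_iff H (US := ⊤) (UT := ⊤) (UX := ⊤) (UY := ⊤) le_top le_top
      (by simp)).1 (isIso_pushoutSection_of_isQuasiSeparated_of_flat_right H _ _ _
        (isAffineOpen_top _) (isAffineOpen_top _) isCompact_univ (IsQuasiSeparated.of_quasiSeparatedSpace _))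
  have hP' : IsPushout (CommRingCat.ofHom (cst p ⊤)) (CommRingCat.ofHom (algebraMap K L))
      (g.appLE ⊤ ⊤ le_top) (CommRingCat.ofHom (cst q ⊤)) := by
    refine hP.of_iso (Scheme.ΓSpecIso _) (Iso.refl _) (Scheme.ΓSpecIso _) (Iso.refl _) ?_ ?_ ?_ ?_
    · ext r
      simp [cst]
    · rw [show φ.appLE ⊤ ⊤ le_top = φ.appTop from Scheme.Hom.appLE_eq_app _]
      exact Scheme.ΓSpecIso_naturality _
    · simp
    · ext r
      simp [cst]
  have hc : ∀ r : K, algebraMap K Γ(Z, ⊤) r = cst p ⊤ r := fun r => by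
    simp [cst, Scheme.Hom.appLE, RingHom.algebraMap_toAlgebra]
  letI : Algebra L Γ(Z', ⊤) := (cst q ⊤).toAlgebra
  letI : Algebra Γ(Z, ⊤) Γ(Z', ⊤) := (g.appLE ⊤ ⊤ le_top).hom.toAlgebra
  letI : Algebra K Γ(Z', ⊤) := ((cst q ⊤).comp (algebraMap K L)).toAlgebra
  haveI : IsScalarTower K L Γ(Z', ⊤) := IsScalarTower.of_algebraMap_eq fun _ => rfl
  haveI : IsScalarTower K Γ(Z, ⊤) Γ(Z', ⊤) := IsScalarTower.of_algebraMap_eq fun r =>
    (ConcreteCategory.congr_hom hP'.w r).symm.trans (congrArg (g.appLE ⊤ ⊤ le_top).hom (hc r).symm)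
  haveI hA : Algebra.IsPushout K Γ(Z, ⊤) L Γ(Z', ⊤) := by
    refine CommRingCat.isPushout_iff_isPushout.1 ?_
    rwa [show CommRingCat.ofHom (algebraMap K Γ(Z, ⊤)) = CommRingCat.ofHom (cst p ⊤) from
      CommRingCat.hom_ext (RingHom.ext hc)]
  haveI hA' : Algebra.IsPushout K L Γ(Z, ⊤) Γ(Z', ⊤) := hA.symm
  have e : L ≃ₗ[L] Γ(Z', ⊤) := LinearEquiv.ofBijective (Algebra.linearMap L Γ(Z', ⊤)) hq
  rw [← Module.finrank_baseChange (R := L), hA'.out.equiv.finrank_eq, ← e.finrank_eq, Module.finrank_self]

theorem finrank_fiber_functions_eq_one {X Y : Scheme.{u}} (f : X ⟶ Y) [UniversallyClosed f] [QuasiSeparated f]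
    [GeometricallyConnected f] [GeometricallyReduced f] (y : Y) :
    Module.finrank (Y.residueField y) Γ(f.fiber y, ⊤) = 1 :=
  haveI : UniversallyClosed (f.fiberToSpecResidueField y) :=
    inferInstanceAs (UniversallyClosed (pullback.snd f (Y.fromSpecResidueField y)))
  haveI : QuasiSeparated (f.fiberToSpecResidueField y) :=
    inferInstanceAs (QuasiSeparated (pullback.snd f (Y.fromSpecResidueField y)))
  haveI : GeometricallyConnected (f.fiberToSpecResidueField y) :=
    inferInstanceAs (GeometricallyConnected (pullback.snd f (Y.fromSpecResidueField y)))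
  haveI : GeometricallyReduced (f.fiberToSpecResidueField y) :=
    inferInstanceAs (GeometricallyReduced (pullback.snd f (Y.fromSpecResidueField y)))
  finrank_functions_eq_one (K := Y.residueField y) (f.fiberToSpecResidueField y)

end GrothLib.Seesaw26
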