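import Groth.Agent.Lib.Seesaw26.Criterion
import Groth.Agent.Lib.Seesaw26.FieldFunctions
import Groth.Agent.Lib.BCCrit.StratumPush
import Groth.Agent.Lib.Rigidity.Relative.Hom

/-!
# The seesaw subscheme
-/

set_option autoImplicit false
set_option linter.style.haveILetI false
set_option backward.isDefEq.respectTransparency false
set_option maxHeartbeats 2000000
universe u

noncomputable section

open CategoryTheory CategoryTheory.Limits AlgebraicGeometry Opposite TopologicalSpace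
open GrothLib.Ample

namespace GrothLib.Seesaw26

theorem isInvertible_iff_rank_one {X : Scheme.{u}} (M : X.Modules) :
    FlatMod.IsFinLocFreeOfRank 1 M ↔ PicF.IsInvertible M := by
  refine ⟨fun h x => ?_, fun h x => ?_⟩
  · obtain ⟨U, hx, ⟨φ⟩⟩ := h x
    exact ⟨U, hx, ⟨φ ≪≫ coproductUniqueIso fun _ : Fin 1 => Coh.structureModule (↑U)⟩⟩
  · obtain ⟨U, hx, ⟨φ⟩⟩ := h x
    exact ⟨U, hx, ⟨φ ≪≫ (coproductUniqueIso fun _ : Fin 1 => Coh.structureModule (↑U)).symm⟩⟩

section Family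

variable {X S : Scheme.{u}} (f : X ⟶ S) [IsProper f] [Flat f] [GeometricallyIntegral f] [LocallyOfFinitePresentation f]

theorem h0_of_geometricallyIntegral (y : S) : Module.finrank (S.residueField y) Γ(f.fiber y, ⊤) = 1 := by
  haveI := Rigidity.geometricallyConnected_of_geometricallyIrreducible f
  exact finrank_fiber_functions_eq_one f y

theorem isIntegral_fiber (y : S) : IsIntegral (f.fiber y) :=
  pullback_of_geometrically GeometricallyIntegral.geometrically_isIntegral _ (S.fromSpecResidueField y)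

/-- A class and its inverse having sections on a fibre means trivial on it. -/
theorem trivial_iff_fiberRank {L M : X.Modules} (hL : PicF.IsInvertible L) (hM : PicF.IsInvertible M)
    (h : Cube.clsMod hL * Cube.clsMod hM = 1) (y : S) :
    (Nonempty ((Scheme.Modules.pullback (f.fiberι y)).obj L ≅ Coh.structureModule (f.fiber y)) ↔
      0 < CohIII.fiberRank f L 0 y ∧ 0 < CohIII.fiberRank f M 0 y) ∧
    (Nonempty ((Scheme.Modules.pullback (f.fiberι y)).obj L ≅ Coh.structureModule (f.fiber y)) →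
      CohIII.fiberRank f L 0 y = 1 ∧ CohIII.fiberRank f M 0 y = 1) := by
  have hP : Cube.clsMod (Ample.isInvertible_pullback (f.fiberι y) hL) *
      Cube.clsMod (Ample.isInvertible_pullback (f.fiberι y) hM) = 1 := by
    rw [Cube.clsMod_pullback _ hL, Cube.clsMod_pullback _ hM, ← map_mul, h, map_one]
  have hone : Nonempty ((Scheme.Modules.pullback (f.fiberι y)).obj L ≅ Coh.structureModule (f.fiber y)) →
      CohIII.fiberRank f L 0 y = 1 ∧ CohIII.fiberRank f M 0 y = 1 := fun ht => by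
    refine ⟨fiberRank_eq_one f L y (h0_of_geometricallyIntegral f y) ht,
      fiberRank_eq_one f M y (h0_of_geometricallyIntegral f y)
        ((Cube.clsMod_eq_one_iff (Ample.isInvertible_pullback (f.fiberι y) hM)).1 ?_)⟩
    rw [(Cube.clsMod_eq_one_iff _).2 ht, _root_.one_mul] at hP
    exact hP
  refine ⟨⟨fun ht => ⟨(hone ht).1 ▸ Nat.one_pos, (hone ht).2 ▸ Nat.one_pos⟩, ?_⟩, hone⟩
  rintro ⟨h1, h2⟩
  obtain ⟨c, ⟨e⟩⟩ := exists_cocycle hL
  obtain ⟨d, ⟨e'⟩⟩ := exists_cocycle hM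
  rw [Cube.clsMod_eq hL e, Cube.clsMod_eq hM e', mul_comm] at h
  haveI := isIntegral_fiber f y
  haveI : UniversallyClosed (f.fiberToSpecResidueField y) :=
    MorphismProperty.pullback_snd f (S.fromSpecResidueField y) inferInstance
  obtain ⟨g⟩ := c.nonempty_pullback_iso (f.fiberι y) e
  obtain ⟨t⟩ := (Cube.triv_iff _).1 (Cube.triv_of_sections
    (Rigidity.isField_appTop_of_universallyClosed (K := S.residueField y) (f.fiberToSpecResidueField y))
    (c.comap (f.fiberι y)) (d.comap (f.fiberι y))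
    (by rw [← Cube.pull_cls, ← Cube.pull_cls, ← map_mul, h, map_one])
    (exists_sect_of_nontrivial f e y (Module.nontrivial_of_finrank_pos h1))
    (exists_sect_of_nontrivial f e' y (Module.nontrivial_of_finrank_pos h2)))
  exact ⟨g ≪≫ t⟩

open BCCrit in
/-- Pulled back from the base means rank one with good base change, for the module and its inverse. -/
theorem exists_base_iff_good {L M : X.Modules} (hL : PicF.IsInvertible L) (hM : PicF.IsInvertible M)
    (h : Cube.clsMod hL * Cube.clsMod hM = 1) :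
    (∃ N : S.Modules, PicF.IsInvertible N ∧ Nonempty (L ≅ (Scheme.Modules.pullback f).obj N)) ↔
      ∀ s : S, (GoodAll f L ((0 : ℕ) : ℤ) s ∧ CohIII.fiberRank f L 0 s = 1) ∧
        (GoodAll f M ((0 : ℕ) : ℤ) s ∧ CohIII.fiberRank f M 0 s = 1) := by
  haveI : L.IsQuasicoherent := InvExt.isQuasicoherent_of_isInvertible hL
  haveI : Coh.IsQCoh L := ‹L.IsQuasicoherent›
  haveI : M.IsQuasicoherent := InvExt.isQuasicoherent_of_isInvertible hM
  haveI : Coh.IsQCoh M := ‹M.IsQuasicoherent›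
  have hFL : CohB1.IsFP L := LocFree8.isFP_of_isFinLocFree _ (Euler.isFinLocFree_of_isInvertible hL)
  have hFM : CohB1.IsFP M := LocFree8.isFP_of_isFinLocFree _ (Euler.isFinLocFree_of_isInvertible hM)
  have hgood : ∀ {N : X.Modules} {N₀ : S.Modules}, PicF.IsInvertible N → PicF.IsInvertible N₀ →
      ((Scheme.Modules.pullback f).obj N₀ ≅ N) → ∀ s : S,
      Epi (CohBC.bc0 f (S.fromSpecResidueField s) (f.fiberToSpecResidueField s) (f.fiberι s) (f.fiber_fac s) N) := by
    intro N N₀ hN hN₀ i s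
    obtain ⟨U, hU, e, he⟩ := exists_gen_preimage_of_base f hN₀ i s
    exact epi_bc0_of_gen f N hN s (h0_of_geometricallyIntegral f s) U hU e he
  constructor
  · rintro ⟨N, hN, ⟨i⟩⟩ s
    obtain ⟨N', hN', ⟨j⟩⟩ := exists_inv_base f hL hM hN ⟨i⟩ h
    obtain ⟨hr, hr'⟩ := (trivial_iff_fiberRank f hL hM h s).2 (trivial_fibre_of_base f hN i.symm s)
    exact ⟨⟨(goodAll_iff_epi0 hFL (isFlatOver_of_isInvertible f hL) s).2 (hgood hL hN i.symm s), hr⟩,
      (goodAll_iff_epi0 hFM (isFlatOver_of_isInvertible f hM) s).2 (hgood hM hN' j.symm s), hr'⟩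
  · intro hs
    obtain ⟨N, hN, ⟨i⟩⟩ := exists_base_of_good f (h0_of_geometricallyIntegral f) L hL
      (fun s => (trivial_iff_fiberRank f hL hM h s).1.2
        ⟨(hs s).1.2 ▸ Nat.one_pos, (hs s).2.2 ▸ Nat.one_pos⟩)
      fun s => (goodAll_iff_epi0 hFL (isFlatOver_of_isInvertible f hL) s).1 (hs s).1.1
    exact ⟨N, hN, ⟨i.symm⟩⟩

end Family

variable {X S : Scheme.{u}} (f : X ⟶ S) [IsProper f] [Flat f] [GeometricallyIntegral f] [LocallyOfFinitePresentation f]

/-- The seesaw subscheme, of finite presentation. -/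
theorem exists_seesaw_subscheme' (L : X.Modules) (hL : PicF.IsInvertible L) :
    ∃ (Z : Scheme.{u}) (ι : Z ⟶ S), IsClosedImmersion ι ∧ LocallyOfFinitePresentation ι ∧
      ∀ (T : Scheme.{u}) (u : T ⟶ S),
        ((∃ u' : T ⟶ Z, u' ≫ ι = u) ↔
          ∃ N : T.Modules, PicF.IsInvertible N ∧
            Nonempty ((Scheme.Modules.pullback (pullback.fst f u)).obj L ≅
              (Scheme.Modules.pullback (pullback.snd f u)).obj N)) := by
  obtain ⟨c, ⟨e⟩⟩ := exists_cocycle hL
  let M := (Cube.inv c).twist 1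
  have hM : PicF.IsInvertible M := (Cube.inv c).isInvertible_twist 1
  have hLM : Cube.clsMod hL * Cube.clsMod hM = 1 := by
    rw [Cube.clsMod_eq hL e, Cube.clsMod_eq hM (Iso.refl _), mul_comm, ← Cube.cls_prod]
    exact Quotient.sound (Cube.eqv_prod_inv c)
  haveI : L.IsQuasicoherent := InvExt.isQuasicoherent_of_isInvertible hL
  haveI : Coh.IsQCoh L := ‹L.IsQuasicoherent›
  haveI : M.IsQuasicoherent := InvExt.isQuasicoherent_of_isInvertible hM
  haveI : Coh.IsQCoh M := ‹M.IsQuasicoherent›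
  have hFL : CohB1.IsFP L := LocFree8.isFP_of_isFinLocFree _ (Euler.isFinLocFree_of_isInvertible hL)
  have hFM : CohB1.IsFP M := LocFree8.isFP_of_isFinLocFree _ (Euler.isFinLocFree_of_isInvertible hM)
  obtain ⟨Z₁, ι₁, hi₁, hfp₁, hq₁, huniv₁, hr₁⟩ :=
    BCCrit.exists_stratum 1 hFL (isFlatOver_of_isInvertible f hL)
  obtain ⟨Z₂, ι₂, hi₂, hfp₂, hq₂, huniv₂, hr₂⟩ :=
    BCCrit.exists_stratum 1 hFM (isFlatOver_of_isInvertible f hM)
  let ι : pullback ι₁ ι₂ ⟶ S := pullback.fst ι₁ ι₂ ≫ ι₁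
  haveI := hi₁
  haveI := hi₂
  haveI : IsImmersion (pullback.fst ι₁ ι₂) := MorphismProperty.pullback_fst ι₁ ι₂ hi₂
  haveI : IsImmersion ι := MorphismProperty.comp_mem _ _ _ (inferInstance : IsImmersion _) hi₁
  have hrange : Set.range ι =
      {y : S | Nonempty ((Scheme.Modules.pullback (f.fiberι y)).obj L ≅ Coh.structureModule (f.fiber y))} := by
    ext y
    have h12 : y ∈ Set.range ι ↔ y ∈ Set.range ι₁ ∧ y ∈ Set.range ι₂ := by
      refine ⟨?_, ?_⟩
      · rintro ⟨z, rfl⟩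
        exact ⟨⟨pullback.fst ι₁ ι₂ z, rfl⟩, pullback.snd ι₁ ι₂ z,
          (congrArg (fun q : pullback ι₁ ι₂ ⟶ S => q z) pullback.condition).symm⟩
      · rintro ⟨⟨a, ha⟩, b, hb⟩
        obtain ⟨z, hz, -⟩ := Scheme.Pullback.exists_preimage_pullback a b (ha.trans hb.symm)
        exact ⟨z, (congrArg ι₁ hz).trans ha⟩
    rw [h12, hr₁, hr₂]
    obtain ⟨h1, h2⟩ := trivial_iff_fiberRank f hL hM hLM y
    exact ⟨fun ⟨a, b⟩ => h1.2 ⟨a ▸ Nat.one_pos, b ▸ Nat.one_pos⟩, h2⟩
  have hclosed : IsClosed (Set.range ι) := by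
    rw [hrange]
    exact isClosed_trivial_fibres f (isIntegral_fiber f) L hL
  refine ⟨_, ι, IsClosedImmersion.of_isPreimmersion ι hclosed, ?_, fun T u => ?_⟩
  · haveI := hfp₁
    haveI := hfp₂
    exact inferInstanceAs (LocallyOfFinitePresentation (pullback.fst ι₁ ι₂ ≫ ι₁))
  have hL' := Ample.isInvertible_pullback (pullback.fst f u) hL
  have hM' := Ample.isInvertible_pullback (pullback.fst f u) hM
  have hLM' : Cube.clsMod hL' * Cube.clsMod hM' = 1 := by
    rw [Cube.clsMod_pullback _ hL, Cube.clsMod_pullback _ hM, ← map_mul, hLM, map_one]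
  rw [exists_base_iff_good (pullback.snd f u) hL' hM' hLM']
  constructor
  · rintro ⟨u', hu⟩ t
    exact ⟨(huniv₁ T u).1 ⟨u' ≫ pullback.fst ι₁ ι₂, (Category.assoc _ _ _).trans hu⟩ t,
      (huniv₂ T u).1 ⟨u' ≫ pullback.snd ι₁ ι₂, by rw [Category.assoc, ← pullback.condition]; exact hu⟩ t⟩
  · intro h
    obtain ⟨u₁, h₁⟩ := (huniv₁ T u).2 fun t => (h t).1
    obtain ⟨u₂, h₂⟩ := (huniv₂ T u).2 fun t => (h t).2
    exact ⟨pullback.lift u₁ u₂ (h₁.trans h₂.symm), by rw [pullback.lift_fst_assoc]; exact h₁⟩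

/-- The seesaw subscheme. -/
theorem exists_seesaw_subscheme (L : X.Modules) (hL : PicF.IsInvertible L) :
    ∃ (Z : Scheme.{u}) (ι : Z ⟶ S), IsClosedImmersion ι ∧
      ∀ (T : Scheme.{u}) (u : T ⟶ S),
        ((∃ u' : T ⟶ Z, u' ≫ ι = u) ↔
          ∃ N : T.Modules, PicF.IsInvertible N ∧
            Nonempty ((Scheme.Modules.pullback (pullback.fst f u)).obj L ≅
              (Scheme.Modules.pullback (pullback.snd f u)).obj N)) := by
  obtain ⟨Z, ι, h1, -, h2⟩ := exists_seesaw_subscheme' f L hL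
  exact ⟨Z, ι, h1, h2⟩

end GrothLib.Seesaw26
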