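import Groth.Agent.Lib.Seesaw26.Functions
import Groth.Agent.Lib.Seesaw26.FieldFunctions
import Mathlib.AlgebraicGeometry.AlgClosed.Basic

/-!
# One-dimensional functions on the fibres can be checked at closed points
-/

set_option autoImplicit false
set_option linter.style.haveILetI false
set_option backward.isDefEq.respectTransparency false
set_option maxHeartbeats 1000000
universe u

noncomputable section

open CategoryTheory CategoryTheory.Limits AlgebraicGeometry Opposite TopologicalSpace
open GrothLib.Ample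

namespace GrothLib.Seesaw26

variable {X Y : Scheme.{u}} (f : X ⟶ Y) [IsProper f] [Flat f] [IsLocallyNoetherian Y]

theorem isClosed_setOf_le_fiberRank (n : ℕ) :
    IsClosed {y : Y | n ≤ CohIII.fiberRank f (Coh.structureModule X) 0 y} := by
  refine isOpen_compl_iff.1 (isOpen_iff_forall_mem_open.2 fun y hy => ?_)
  obtain ⟨V, hV, hyV, -⟩ := exists_isAffineOpen_mem_and_subset (x := y) (U := (⊤ : Y.Opens)) trivial
  haveI : IsNoetherianRing Γ(Y, V) := IsLocallyNoetherian.component_noetherian ⟨V, hV⟩
  let O := Coh.structureModule X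
  haveI : O.IsQuasicoherent := InvExt.isQuasicoherent_of_isInvertible Euler.isInvertible_structure
  haveI : IsProper (BCCoh.affBase f hV) := inferInstance
  obtain ⟨m⟩ := BCCoh.nonempty_model (BCCoh.affBase f hV) (O.restrict (f ⁻¹ᵁ V).ι)
    (Cohom.isCoh_restrict O (Euler.isCoh_of_isInvertible Euler.isInvertible_structure) _)
    (BCCoh.isFlatOver_affBase f hV O (isFlatOver_structure f))
  have hopen : IsOpen {P : PrimeSpectrum Γ(Y, V) | CohIII.dRank m.L ((0 : ℕ) : ℤ) P < n} :=
    (FlatCx.upperSemicontinuous_dRank m.L (fun i =>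
      haveI := (m.finFree i).2; ⟨(m.finFree i).1, inferInstance⟩) _).isOpen_preimage n
  let W : Set Y := Subtype.val '' ((fun z : V => hV.primeIdealOf z) ⁻¹'
    {P : PrimeSpectrum Γ(Y, V) | CohIII.dRank m.L ((0 : ℕ) : ℤ) P < n})
  refine ⟨W, ?_, V.isOpen.isOpenMap_subtype_val _ (hopen.preimage hV.isoSpec.hom.continuous), ?_⟩
  · rintro _ ⟨z, hz, rfl⟩
    show ¬ (n ≤ CohIII.fiberRank f O 0 z.1)
    rw [m.fiberRank_affine f hV O 0 z.1 z.2, not_le]
    exact hz
  · refine ⟨⟨y, hyV⟩, ?_, rfl⟩
    show CohIII.dRank m.L ((0 : ℕ) : ℤ) _ < n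
    rw [← m.fiberRank_affine f hV O 0 y hyV]
    exact not_le.1 hy

theorem fiberRank_structure' (y : Y) :
    CohIII.fiberRank f (Coh.structureModule X) 0 y = Module.finrank (Y.residueField y) Γ(f.fiber y, ⊤) := by
  obtain ⟨e, he⟩ := BCCoh.exists_hh_equiv (B := Y.residueField y) (f.fiberToSpecResidueField y)
    (PicLoc.pullbackStructureIso (f.fiberι y)) 0
  letI := BCCoh.modHH (A := Y.residueField y) (f.fiberToSpecResidueField y)
    (Coh.structureModule (f.fiber y)) 0
  exact ((e.toLinearEquiv he).finrank_eq.trans (fiberRank_structure f y))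

theorem finrank_functions_pos (y : Y) [Nonempty ↥(f.fiber y)] :
    0 < Module.finrank (Y.residueField y) Γ(f.fiber y, ⊤) := by
  rw [← fiberRank_structure']
  letI : (f.fiber y).Over (Spec (CommRingCat.of (Y.residueField y))) := ⟨f.fiberToSpecResidueField y⟩
  haveI : IsProper ((f.fiber y) ↘ Spec (CommRingCat.of (Y.residueField y))) :=
    inferInstanceAs (IsProper (pullback.snd f (Y.fromSpecResidueField y)))
  have hinv : PicF.IsInvertible ((Scheme.Modules.pullback (f.fiberι y)).obj (Coh.structureModule X)) :=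
    Ample.isInvertible_pullback (f.fiberι y) Euler.isInvertible_structure
  haveI : Module.Finite (Y.residueField y) (CohIII.fiberH f (Coh.structureModule X) y 0) :=
    ProjCoh.moduleFinite_HH (X := f.fiber y) (Y.residueField y) _ (Euler.isCoh_of_isInvertible hinv) 0
  show 0 < Module.finrank (Y.residueField y) (CohIII.fiberH f (Coh.structureModule X) y 0)
  rw [Module.finrank_pos_iff]
  haveI : Nonempty (⊤ : (f.fiber y).Opens) := ⟨⟨Classical.arbitrary _, trivial⟩⟩
  haveI : Nontrivial Γ(f.fiber y, ⊤) := Scheme.component_nontrivial (f.fiber y) ⊤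
  let e : CohIII.fiberH f (Coh.structureModule X) y 0 ≃ Γ(f.fiber y, ⊤) :=
    ((show Coh.HH (f.fiber y) ((Scheme.Modules.pullback (f.fiberι y)).obj (Coh.structureModule X)) 0 ≃+
      Γ((Scheme.Modules.pullback (f.fiberι y)).obj (Coh.structureModule X), ⊤) from
        Sheaf.H.equiv₀ (Coh.toAb _) (T := (⊤ : (f.fiber y).Opens)) isTerminalTop).toEquiv.trans
      (((SheafOfModules.toSheaf _ ⋙ sheafToPresheaf _ _ ⋙ (evaluation _ _).obj (op ⊤)).mapIso
        (PicLoc.pullbackStructureIso (f.fiberι y))).addCommGroupIsoToAddEquiv.toEquiv))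
  exact e.nontrivial

theorem finrank_eq_one_of_closedPoints [JacobsonSpace Y] (hne : ∀ y : Y, Nonempty ↥(f.fiber y))
    (hcl : ∀ y : Y, IsClosed ({y} : Set Y) → Module.finrank (Y.residueField y) Γ(f.fiber y, ⊤) = 1)
    (y : Y) : Module.finrank (Y.residueField y) Γ(f.fiber y, ⊤) = 1 := by
  haveI := hne y
  refine le_antisymm ?_ (finrank_functions_pos f y)
  by_contra h
  obtain ⟨z, hz, hz'⟩ := nonempty_inter_closedPoints (Z := {y : Y | 2 ≤ CohIII.fiberRank f (Coh.structureModule X) 0 y})
    ⟨y, by show 2 ≤ _; rw [fiberRank_structure']; omega⟩ (isClosed_setOf_le_fiberRank f 2).isLocallyClosed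
  have hz1 := hcl z hz'
  have hz2 : 2 ≤ CohIII.fiberRank f (Coh.structureModule X) 0 z := hz
  rw [fiberRank_structure'] at hz2
  omega

omit [IsProper f] [Flat f] [IsLocallyNoetherian Y] in
theorem finrank_eq_one_of_isAlgClosed [UniversallyClosed f] {k : Type u} [Field k] [IsAlgClosed k]
    (g : Y ⟶ Spec (CommRingCat.of k)) [LocallyOfFiniteType g] (y : Y) (hy : IsClosed ({y} : Set Y))
    [ConnectedSpace ↥(f.fiber y)] [IsReduced (f.fiber y)] :
    Module.finrank (Y.residueField y) Γ(f.fiber y, ⊤) = 1 := by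
  haveI : IsAlgClosed (Y.residueField y) :=
    IsAlgClosed.of_ringEquiv k _ (residueFieldIsoBase g y hy).symm.commRingCatIsoToRingEquiv
  haveI : UniversallyClosed (f.fiberToSpecResidueField y) :=
    inferInstanceAs (UniversallyClosed (pullback.snd f (Y.fromSpecResidueField y)))
  have h := bijective_cst_of_isAlgClosed (L := Y.residueField y) (f.fiberToSpecResidueField y)
  have hc : ∀ r, algebraMap (Y.residueField y) Γ(f.fiber y, ⊤) r =
      Cube.cst (f.fiberToSpecResidueField y) ⊤ r := fun r => by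
    simp [Cube.cst, Scheme.Hom.appLE, RingHom.algebraMap_toAlgebra]
    rfl
  have h' : Function.Bijective (Algebra.linearMap (Y.residueField y) Γ(f.fiber y, ⊤)) := by
    rw [show ⇑(Algebra.linearMap (Y.residueField y) Γ(f.fiber y, ⊤)) =
      ⇑(Cube.cst (f.fiberToSpecResidueField y) ⊤) from funext hc]
    exact h
  rw [← (LinearEquiv.ofBijective _ h').finrank_eq, Module.finrank_self]

end GrothLib.Seesaw26
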