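import Groth.Agent.Lib.Seesaw26.Local
import Groth.Agent.Lib.BCCrit.Theta
import Groth.Agent.Lib.PicDirect26.Basic
import Groth.Agent.Lib.AssPts.Flat
import Groth.Prelude.Def_PicLoc
import Groth.Agent.Lib.UnitsThick26.FlatIdeal
import Mathlib.RingTheory.LocalRing.Module

/-!
# One-dimensional functions on the fibres over a reduced base: `O_Y = f_* O_X`
-/

set_option autoImplicit false
set_option linter.style.haveILetI false
set_option backward.isDefEq.respectTransparency false
set_option maxHeartbeats 1000000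
universe u

noncomputable section

open CategoryTheory CategoryTheory.Limits AlgebraicGeometry Opposite TopologicalSpace TensorProduct MonoidalCategory
open GrothLib.Ample

namespace GrothLib.Seesaw26

/-- An algebra whose fibres are lines is the ring itself, over a reduced ring. -/
theorem algebraMap_bijective_of_finrank_eq_one {A R : Type u} [CommRing A] [IsReduced A] [CommRing R] [Algebra A R]
    [Module.Finite A R]
    (h : ∀ P : PrimeSpectrum A, Module.finrank P.asIdeal.ResidueField (P.asIdeal.ResidueField ⊗[A] R) = 1) :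
    Function.Bijective (algebraMap A R) := by
  have hne : ∀ P : PrimeSpectrum A, (1 : P.asIdeal.ResidueField ⊗[A] R) ≠ 0 := fun P h1 => by
    have : Subsingleton (P.asIdeal.ResidueField ⊗[A] R) := subsingleton_of_zero_eq_one h1.symm
    have := h P
    rw [Module.finrank_zero_of_subsingleton] at this
    exact zero_ne_one this
  refine ⟨(injective_iff_map_eq_zero _).2 fun a ha => ?_, fun r => ?_⟩
  · refine IsNilpotent.eq_zero ((nilpotent_iff_mem_prime).2 fun P hP => ?_)
    refine (Ideal.algebraMap_residueField_eq_zero (I := P)).1 ?_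
    by_contra hu
    refine hne ⟨P, hP⟩ ?_
    have e : (algebraMap A P.ResidueField a) ⊗ₜ[A] (1 : R) = 0 := by
      rw [Algebra.algebraMap_eq_smul_one, TensorProduct.smul_tmul, ← Algebra.algebraMap_eq_smul_one, ha,
        TensorProduct.tmul_zero]
    calc (1 : P.ResidueField ⊗[A] R)
        = (algebraMap A P.ResidueField a)⁻¹ • ((algebraMap A P.ResidueField a) ⊗ₜ[A] (1 : R)) := by
          rw [TensorProduct.smul_tmul', smul_eq_mul, inv_mul_cancel₀ hu]; rfl
      _ = 0 := by rw [e, smul_zero]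
  · have key : LinearMap.range (Algebra.linearMap A R) = ⊤ := by
      let C := R ⧸ LinearMap.range (Algebra.linearMap A R)
      have hC : Subsingleton C := by
        rw [← Module.support_eq_empty_iff (R := A)]
        refine Set.eq_empty_iff_forall_notMem.2 fun P hP => ?_
        rw [Module.mem_support_iff_nontrivial_residueField_tensorProduct] at hP
        have hsub : ∀ z : P.asIdeal.ResidueField ⊗[A] C, z = 0 := fun z => by
          obtain ⟨w, rfl⟩ := LinearMap.lTensor_surjective P.asIdeal.ResidueField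
            (Submodule.mkQ_surjective (LinearMap.range (Algebra.linearMap A R))) z
          obtain ⟨k, rfl⟩ := (finrank_eq_one_iff_of_nonzero' (1 : P.asIdeal.ResidueField ⊗[A] R) (hne P)).1 (h P) w
          rw [show (k • (1 : P.asIdeal.ResidueField ⊗[A] R)) = k ⊗ₜ[A] (1 : R) from by
              rw [Algebra.TensorProduct.one_def, TensorProduct.smul_tmul', smul_eq_mul, mul_one],
            LinearMap.lTensor_tmul,
            show (LinearMap.range (Algebra.linearMap A R)).mkQ (1 : R) = 0 from
              (Submodule.Quotient.mk_eq_zero _).2 ⟨1, map_one (algebraMap A R)⟩,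
            TensorProduct.tmul_zero]
        obtain ⟨u, v, huv⟩ := hP
        exact huv ((hsub u).trans (hsub v).symm)
      exact Submodule.Quotient.subsingleton_iff.1 hC
    obtain ⟨a, ha⟩ := key.ge (Submodule.mem_top (x := r))
    exact ⟨a, ha⟩

theorem isFlatOver_structure {X Y : Scheme.{u}} (f : X ⟶ Y) [Flat f] :
    FlatMod.IsFlatOver f (Coh.structureModule X) := fun x => by
  obtain ⟨e⟩ := AssPts.exists_stalk_unit_equiv x
  letI : Algebra (Y.presheaf.stalk (f.base x)) (X.presheaf.stalk x) := (f.stalkMap x).hom.toAlgebra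
  letI := FlatMod.moduleStalkOver f (Coh.structureModule X) x
  haveI : IsScalarTower (Y.presheaf.stalk (f.base x)) (X.presheaf.stalk x)
      ((Coh.structureModule X).presheaf.stalk x) := IsScalarTower.of_algebraMap_smul fun _ _ => rfl
  haveI : Module.Flat (Y.presheaf.stalk (f.base x)) (X.presheaf.stalk x) := Flat.stalkMap f x
  exact Module.Flat.of_linearEquiv (e.restrictScalars (Y.presheaf.stalk (f.base x))).symm

variable {X Y : Scheme.{u}} (f : X ⟶ Y) [IsProper f] [Flat f] [IsLocallyNoetherian Y] [IsReduced Y]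

theorem bijective_app_of_affine (h0 : ∀ y : Y, Module.finrank (Y.residueField y) Γ(f.fiber y, ⊤) = 1)
    {V : Y.Opens} (hV : IsAffineOpen V) : Function.Bijective (f.app V) := by
  haveI : IsNoetherianRing Γ(Y, V) := IsLocallyNoetherian.component_noetherian ⟨V, hV⟩
  let j := (f ⁻¹ᵁ V).ι
  let X' : Scheme.{u} := (f ⁻¹ᵁ V : X.Opens)
  let fV := BCCoh.affBase f hV
  let O := Coh.structureModule X
  let G := O.restrict j
  haveI : O.IsQuasicoherent := InvExt.isQuasicoherent_of_isInvertible Euler.isInvertible_structure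
  have hflat : FlatMod.IsFlatOver f O := isFlatOver_structure f
  haveI : IsProper fV := inferInstance
  obtain ⟨m⟩ := BCCoh.nonempty_model fV G (Cohom.isCoh_restrict O (Euler.isCoh_of_isInvertible Euler.isInvertible_structure) j)
    (BCCoh.isFlatOver_affBase f hV O hflat)
  have hrank : ∀ z : Y, CohIII.fiberRank f O 0 z = 1 := fun z =>
    fiberRank_eq_one f _ z (h0 z) ⟨PicLoc.pullbackStructureIso _⟩
  have hd : ∀ P : PrimeSpectrum Γ(Y, V), CohIII.dRank m.L ((0 : ℕ) : ℤ) P = 1 := fun P => by
    obtain ⟨z, rfl⟩ : ∃ z : V, hV.primeIdealOf z = P :=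
      ⟨hV.isoSpec.inv P, by
        show hV.isoSpec.hom (hV.isoSpec.inv P) = P
        simp⟩
    rw [← BCCoh.Model.fiberRank_affine f hV O m 0 z.1 z.2]
    exact hrank z.1
  -- `T(A)` is the ring of functions
  obtain ⟨eC, heC, -⟩ := BCCoh.exists_linearEquiv fV m.U m.cover m.aff 0
  let iG : G ≅ Coh.structureModule X' :=
    (Scheme.Modules.restrictFunctorIsoPullback j).app O ≪≫ PicLoc.pullbackStructureIso j
  letI : X'.Over (Spec (CommRingCat.of Γ(Y, V))) := ⟨fV⟩
  obtain ⟨eI, heI⟩ := BCCoh.exists_hh_equiv (B := Γ(Y, V)) fV iG 0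
  letI : Algebra Γ(Y, V) Γ(X', ⊤) := (Coh.toGlobal fV).toAlgebra
  let eT : CohIII.T m.L ((0 : ℕ) : ℤ) (ModuleCat.of Γ(Y, V) Γ(Y, V)) ≃ₗ[Γ(Y, V)] (BCCoh.cx fV m.U G).homology 0 :=
    ((BCCrit.theta m 0).app (ModuleCat.of Γ(Y, V) Γ(Y, V)) ≪≫
      HomologicalComplex.homologyMapIso (BCCrit.unitI fV G m.U) 0).toLinearEquiv
  let e₀ : Coh.HH X' (Coh.structureModule X') 0 ≃+ Γ(X', ⊤) :=
    Sheaf.H.equiv₀ (Coh.toAb (Coh.structureModule X')) (T := (⊤ : X'.Opens)) isTerminalTop
  letI := BCCoh.modHH (A := Γ(Y, V)) fV G 0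
  letI := BCCoh.modHH (A := Γ(Y, V)) fV (Coh.structureModule X') 0
  let eR : CohIII.T m.L ((0 : ℕ) : ℤ) (ModuleCat.of Γ(Y, V) Γ(Y, V)) ≃ₗ[Γ(Y, V)] Γ(X', ⊤) :=
    eT.trans (((eC G inferInstance).toLinearEquiv (heC G inferInstance)).symm.trans ((eI.toLinearEquiv heI).trans
      (e₀.toLinearEquiv fun a x => by
        let r := Coh.toGlobal (X := X') (A := Γ(Y, V)) fV a
        refine ((Sheaf.H.equiv₀_naturality isTerminalTop (Coh.smulAb (Coh.structureModule X') r) x).symm.trans
          ((Coh.smulAb_app _ _ (op ⊤) _).trans ?_))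
        have e2 : Coh.resTop X' (op ⊤) r = r := by
          show (X'.ringCatSheaf.obj.map (𝟙 _)).hom _ = _
          rw [CategoryTheory.Functor.map_id]; rfl
        rw [e2]
        rfl)))
  haveI : Module.Finite Γ(Y, V) (CohIII.T m.L ((0 : ℕ) : ℤ) (ModuleCat.of Γ(Y, V) Γ(Y, V))) := by
    haveI := fun k => (m.finFree k).1
    exact Module.Finite.equiv (FlatCx.TUnitKerEquiv m.L ((0 : ℕ) : ℤ)).symm
  haveI : Module.Finite Γ(Y, V) Γ(X', ⊤) := Module.Finite.equiv eR
  haveI : IsReduced (Spec (CommRingCat.of Γ(Y, V))) := inferInstance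
  have hbij := algebraMap_bijective_of_finrank_eq_one (A := Γ(Y, V)) (R := Γ(X', ⊤)) fun P => by
    rw [← hd P, BCCrit.dRank_eq_of_good m.L m.finFree _ P
      (BCCrit.good_of_isLocallyConstant m.L m.finFree (show ((0 : ℕ) : ℤ) - 1 + 1 = ((0 : ℕ) : ℤ) by omega)
        (IsLocallyConstant.of_constant _ fun a b => (hd a).trans (hd b).symm) P).1]
    exact (TensorProduct.AlgebraTensorModule.congr (LinearEquiv.refl P.asIdeal.ResidueField P.asIdeal.ResidueField)
      eR).finrank_eq.symm
  let E : Γ(X', ⊤) ≅ Γ(X, f ⁻¹ᵁ V) :=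
    (j.appIso ⊤).symm ≪≫ X.presheaf.mapIso (eqToIso (by simp [j] : f ⁻¹ᵁ V = j ''ᵁ ⊤)).op
  have hE : ∀ a, E.hom (Coh.toGlobal fV a) = f.app V a := fun a => by
    show X.presheaf.map _ ((j.appIso ⊤).inv (Coh.toGlobal fV a)) = _
    rw [BCCoh.toGlobal_affBase f hV a, ← ConcreteCategory.comp_apply, ← Functor.map_comp]
    show X.presheaf.map _ (f.app V a) = _
    rw [Subsingleton.elim (_ ≫ _) (𝟙 (op (f ⁻¹ᵁ V))), CategoryTheory.Functor.map_id]
    rfl
  have hEb : Function.Bijective E.hom := (ConcreteCategory.isIso_iff_bijective E.hom).1 inferInstance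
  exact ((funext hE : (fun a => E.hom (Coh.toGlobal fV a)) = f.app V)) ▸ hEb.comp hbij

/-- `O_Y = f_* O_X`. -/
theorem bijective_app (h0 : ∀ y : Y, Module.finrank (Y.residueField y) Γ(f.fiber y, ⊤) = 1) (U : Y.Opens) :
    Function.Bijective (f.app U) := by
  haveI : IsIso (ClSub.unitToPush f) :=
    UnitsThick26.isIso_of_bijective_affine _ fun V hV => bijective_app_of_affine f h0 hV
  show Function.Bijective ((ClSub.unitToPush f).app U)
  exact (ConcreteCategory.isIso_iff_bijective _).1
    (Scheme.Modules.Hom.isIso_iff_isIso_app.1 (inferInstance : IsIso (ClSub.unitToPush f)) U)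

end GrothLib.Seesaw26
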