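import Groth.Agent.Lib.Seesaw26.H0
import Groth.Agent.Lib.BCCoh.FibreAffine
import Groth.Agent.Lib.BCCoh.ModelAffine
import Groth.Agent.Lib.Cube.Seesaw

/-!
# A family of trivial invertible modules with one-dimensional functions on the fibres is locally trivial on the base
-/

set_option autoImplicit false
set_option linter.style.haveILetI false
set_option backward.isDefEq.respectTransparency false
set_option maxHeartbeats 1000000
universe u

noncomputable section

open CategoryTheory CategoryTheory.Limits AlgebraicGeometry Opposite TopologicalSpace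
open GrothLib.Ample

namespace GrothLib.Seesaw26

variable {X Y : Scheme.{u}} (f : X ⟶ Y)

theorem fiberRank_structure (y : Y) :
    (letI := BCCoh.modHH (A := Y.residueField y) (f.fiberToSpecResidueField y)
        (Coh.structureModule (f.fiber y)) 0;
      Module.finrank (Y.residueField y) (Coh.HH (f.fiber y) (Coh.structureModule (f.fiber y)) 0)) =
      Module.finrank (Y.residueField y) Γ(f.fiber y, ⊤) := by
  letI := BCCoh.modHH (A := Y.residueField y) (f.fiberToSpecResidueField y)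
    (Coh.structureModule (f.fiber y)) 0
  let Z := f.fiber y
  let e : Coh.HH Z (Coh.structureModule Z) 0 ≃+ Γ(Z, ⊤) :=
    Sheaf.H.equiv₀ (Coh.toAb (Coh.structureModule Z)) (T := (⊤ : Z.Opens)) isTerminalTop
  refine LinearEquiv.finrank_eq (e.toLinearEquiv fun r x => ?_)
  let a := Coh.toGlobal (X := Z) (A := Y.residueField y) (f.fiberToSpecResidueField y) r
  refine ((Sheaf.H.equiv₀_naturality isTerminalTop (Coh.smulAb (Coh.structureModule Z) a) x).symm.trans
    ((Coh.smulAb_app _ _ (op ⊤) _).trans ?_))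
  have e2 : Coh.resTop Z (op ⊤) a = a := by
    show (Z.ringCatSheaf.obj.map (𝟙 _)).hom _ = _
    rw [CategoryTheory.Functor.map_id]; rfl
  rw [e2]
  rfl

theorem fiberRank_eq_one (L : X.Modules) (y : Y) (h0 : Module.finrank (Y.residueField y) Γ(f.fiber y, ⊤) = 1)
    (h : Nonempty (CohIII.fiberMod f L y ≅ Coh.structureModule (f.fiber y))) :
    CohIII.fiberRank f L 0 y = 1 := by
  obtain ⟨i⟩ := h
  obtain ⟨e, he⟩ := BCCoh.exists_hh_equiv (B := Y.residueField y) (f.fiberToSpecResidueField y) i 0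
  letI := BCCoh.modHH (A := Y.residueField y) (f.fiberToSpecResidueField y)
    (Coh.structureModule (f.fiber y)) 0
  exact ((e.toLinearEquiv he).finrank_eq.trans (fiberRank_structure f y)).trans h0

/-- A nonzero section of a trivial class on a scheme whose functions are one-dimensional over a field vanishes nowhere. -/
theorem locus_eq_top_of_ne_zero {Z : Scheme.{u}} {κ : Type u} [Field κ] [Algebra κ Γ(Z, ⊤)]
    (h : Module.finrank κ Γ(Z, ⊤) = 1) (c : Cocycle Z) (hc : Cube.Triv c) {a : c.sect 1 ⊤} (ha : a ≠ 0) :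
    c.locus a = ⊤ := by
  obtain ⟨α, hα⟩ := hc
  have hb := c.bijective_hom_app α (W := ⊤) hα.ge
  obtain ⟨r, hr⟩ := hb.2 a
  obtain ⟨k, hk⟩ := (finrank_eq_one_iff_of_nonzero' (1 : Γ(Z, ⊤)) (fun h1 => by
    have : Subsingleton Γ(Z, ⊤) := subsingleton_of_zero_eq_one h1.symm
    rw [Module.finrank_zero_of_subsingleton] at h
    exact zero_ne_one h)).1 h r
  have hk0 : k ≠ 0 := fun h0 => ha (by
    rw [← hr, ← hk, h0, zero_smul]
    exact map_zero ((c.hom α).val.app (op ⊤)).hom)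
  refine top_le_iff.1 fun x _ => ?_
  obtain ⟨i, hi⟩ := c.exists_mem x
  refine Opens.mem_iSup.2 ⟨i, ?_⟩
  have hu : IsUnit (a.1 i) := by
    have e : a = (algebraMap κ Γ(Z, ⊤) k : Γ(Z, ⊤)) • α := by
      rw [← hr, ← hk, Algebra.smul_def, mul_one]
      refine (c.hom_app_apply α ⊤ _).trans ?_
      refine congrArg ((algebraMap κ Γ(Z, ⊤) k : Γ(Z, ⊤)) • ·) ?_
      exact c.sect_ext fun l => by rw [c.sectRes_apply, res_self]
    rw [e, c.smul_apply]
    refine IsUnit.mul (((Ne.isUnit hk0).map (algebraMap κ Γ(Z, ⊤))).map _) ?_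
    have h1 := (Cube.isUnit_component hα i (le_refl (c.D i))).map
      (res (inf_le_right : ⊤ ⊓ c.D i ≤ c.D i))
    rwa [res_res, res_self] at h1
  rw [Scheme.basicOpen_of_isUnit _ hu]
  exact ⟨trivial, hi⟩

/-- The sections of a pullback read through a cocycle. -/
theorem exists_nhd_gen [IsProper f] [Flat f] [IsLocallyNoetherian Y] [IsReduced Y]
    (h0 : ∀ y : Y, Module.finrank (Y.residueField y) Γ(f.fiber y, ⊤) = 1)
    (c : Cocycle X) (htriv : ∀ y, Cube.Triv (c.comap (f.fiberι y))) (y : Y) :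
    ∃ U : Y.Opens, y ∈ U ∧ Nonempty ((Scheme.Modules.pullback (f ⁻¹ᵁ U).ι).obj (c.twist 1) ≅
      Coh.structureModule (f ⁻¹ᵁ U).toScheme) := by
  obtain ⟨V, hV, hyV, -⟩ := exists_isAffineOpen_mem_and_subset (x := y) (U := (⊤ : Y.Opens)) trivial
  let A := Γ(Y, V)
  haveI : IsNoetherianRing A := IsLocallyNoetherian.component_noetherian ⟨V, hV⟩
  haveI : IsReduced A := inferInstance
  let j := (f ⁻¹ᵁ V).ι
  let fV := BCCoh.affBase f hV
  let d := c.comap j
  let G := (c.twist 1).restrict j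
  haveI : (c.twist 1).IsQuasicoherent := InvExt.isQuasicoherent_of_isInvertible (c.isInvertible_twist 1)
  haveI : G.IsQuasicoherent := inferInstance
  have hcoh : Coh.IsCoh G := Cohom.isCoh_restrict (c.twist 1) (Euler.isCoh_of_isInvertible (c.isInvertible_twist 1)) j
  haveI : IsProper fV := inferInstance
  obtain ⟨m⟩ := BCCoh.nonempty_model fV G hcoh (BCCoh.isFlatOver_affBase f hV (c.twist 1) (Cube.flat_twist f c))
  have hrank : ∀ z : Y, CohIII.fiberRank f (c.twist 1) 0 z = 1 := fun z => by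
    obtain ⟨e⟩ := c.nonempty_pullback_twist (f.fiberι z) 1
    obtain ⟨t⟩ := (Cube.triv_iff _).1 (htriv z)
    exact fiberRank_eq_one f _ z (h0 z) ⟨e ≪≫ t⟩
  have hd : ∀ P : PrimeSpectrum A, CohIII.dRank m.L ((0 : ℕ) : ℤ) P = 1 := fun P => by
    obtain ⟨z, rfl⟩ : ∃ z : V, hV.primeIdealOf z = P :=
      ⟨hV.isoSpec.inv P, by
        show hV.isoSpec.hom (hV.isoSpec.inv P) = P
        simp⟩
    rw [← BCCoh.Model.fiberRank_affine f hV (c.twist 1) m 0 z.1 z.2]
    exact hrank z.1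
  let P := hV.primeIdealOf ⟨y, hyV⟩
  obtain ⟨ψ, k, hk, H, hker⟩ := BCCoh.exists_field_map f hV y hyV
  obtain ⟨s, hs⟩ := exists_unit_app_ne_zero m P (Y.residueField y) ψ hker (f.fiberToSpecResidueField y) k H
    (BCCrit.good_of_isLocallyConstant m.L m.finFree (show ((0 : ℕ) : ℤ) - 1 + 1 = ((0 : ℕ) : ℤ) by omega)
      (IsLocallyConstant.of_constant _ fun a b => (hd a).trans (hd b).symm) P).1
    (by rw [hd P]; exact one_pos)
  obtain ⟨e⟩ := c.nonempty_pullback_twist j 1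
  let i₀ : G ≅ d.twist 1 := (Scheme.Modules.restrictFunctorIsoPullback j).app (c.twist 1) ≪≫ e
  let a : d.sect 1 ⊤ := i₀.hom.app ⊤ s
  obtain ⟨e'⟩ := d.nonempty_pullback_twist k 1
  -- the image of `a` on the fibre
  let η := (Scheme.Modules.pullbackPushforwardAdjunction k).unit
  let b : (d.comap k).sect 1 ⊤ := e'.hom.app ⊤ ((η.app (d.twist 1)).app ⊤ a)
  have hb : b ≠ 0 := fun h => by
    refine hs ?_
    have h1 : (η.app (d.twist 1)).app ⊤ a = 0 :=
      ((ConcreteCategory.isIso_iff_bijective _).1 (Scheme.Modules.Hom.isIso_iff_isIso_app.1 inferInstance (⊤ : (f.fiber y).Opens))).1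
        ((show e'.hom.app ⊤ ((η.app (d.twist 1)).app ⊤ a) = e'.hom.app ⊤ 0 from h.trans (map_zero _).symm))
    have h2 := congrArg (fun q => q.app ⊤ s) (η.naturality i₀.hom)
    refine ((ConcreteCategory.isIso_iff_bijective _).1
      (Scheme.Modules.Hom.isIso_iff_isIso_app.1 (inferInstance :
        IsIso ((Scheme.Modules.pullback k ⋙ Scheme.Modules.pushforward k).map i₀.hom)) ⊤)).1 ?_
    exact (h2.symm.trans h1).trans (map_zero _).symm
  have hdk : Cube.Triv (d.comap k) := by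
    rw [← Cube.cls_eq_one_iff, ← Cube.pull_cls, ← Cube.pull_cls, Cube.pull_comp, hk, Cube.pull_cls,
      Cube.cls_eq_one_iff]
    exact htriv y
  have hlocus := locus_eq_top_of_ne_zero (h0 y) (d.comap k) hdk hb
  have hfib : ∀ w : f.fiber y, k w ∈ d.locus a := fun w => by
    obtain ⟨i, hi⟩ := d.exists_mem (k w)
    by_contra hw
    rw [d.mem_locus_iff a hi] at hw
    let r : Γ((f ⁻¹ᵁ V).toScheme, d.D i) := res (le_inf le_top le_rfl) (a.1 i)
    let t : (d.comap k).sect 1 (k ⁻¹ᵁ d.D i) :=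
      e'.hom.app (k ⁻¹ᵁ d.D i) ((η.app (d.twist 1)).app (d.D i) (d.base 1 i le_rfl))
    have h1 : (d.comap k).sectRes (le_top : k ⁻¹ᵁ d.D i ≤ ⊤) b = (k.app (d.D i) r : Γ(f.fiber y, k ⁻¹ᵁ d.D i)) • t := by
      refine (app_mres e'.hom (le_top : k ⁻¹ᵁ d.D i ≤ ⊤) _).symm.trans ?_
      refine Eq.trans (congrArg (e'.hom.app (k ⁻¹ᵁ d.D i)) ?_) (app_smul e'.hom (k.app (d.D i) r) _)
      refine (app_mres (η.app (d.twist 1)) (le_top : d.D i ≤ ⊤) a).symm.trans ?_
      refine (congrArg ((η.app (d.twist 1)).app (d.D i)) ?_).trans (app_smul (η.app (d.twist 1)) r _)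
      refine (d.eq_smul_base i le_rfl (d.sectRes le_top a)).trans
        (congrArg (fun z : Γ((f ⁻¹ᵁ V).toScheme, d.D i) => z • d.base 1 i le_rfl) ?_)
      rw [d.sectRes_apply, res_res]
    have h2 : res (inf_le_inf_right _ le_top) (b.1 i) =
        res inf_le_left (k.app (d.D i) r) * t.1 i := by
      have h3 := congrArg (fun z : (d.comap k).sect 1 (k ⁻¹ᵁ d.D i) => z.1 i) h1
      simp only [Cocycle.sectRes_apply, Cocycle.smul_apply] at h3
      exact h3
    have hbu : w ∈ (f.fiber y).basicOpen (b.1 i) :=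
      ((d.comap k).mem_locus_iff b hi).1 (hlocus.ge (Opens.mem_top w))
    have hwi : w ∈ k ⁻¹ᵁ d.D i ⊓ (d.comap k).D i := ⟨hi, hi⟩
    have h4 : w ∈ (f.fiber y).basicOpen (res (inf_le_inf_right _ le_top : k ⁻¹ᵁ d.D i ⊓ (d.comap k).D i ≤ ⊤ ⊓ (d.comap k).D i) (b.1 i)) := by
      rw [show res (inf_le_inf_right _ le_top : k ⁻¹ᵁ d.D i ⊓ (d.comap k).D i ≤ ⊤ ⊓ (d.comap k).D i) (b.1 i) =
        (f.fiber y).presheaf.map (homOfLE _).op (b.1 i) from rfl, Scheme.basicOpen_res]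
      exact ⟨hwi, hbu⟩
    rw [h2, Scheme.basicOpen_mul] at h4
    have h5 := h4.1
    rw [show res (inf_le_left : k ⁻¹ᵁ d.D i ⊓ (d.comap k).D i ≤ k ⁻¹ᵁ d.D i) (k.app (d.D i) r) =
        (f.fiber y).presheaf.map (homOfLE _).op (k.app (d.D i) r) from rfl, Scheme.basicOpen_res,
      ← Scheme.preimage_basicOpen] at h5
    refine hw ?_
    have h6 : k w ∈ (f ⁻¹ᵁ V).toScheme.basicOpen r := h5.2
    rw [show r = (f ⁻¹ᵁ V).toScheme.presheaf.map (homOfLE _).op (a.1 i) from rfl, Scheme.basicOpen_res] at h6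
    exact h6.2
  let C : Set Y := f.base '' ((j ''ᵁ d.locus a : X.Opens) : Set X)ᶜ
  have hC : IsClosed C := f.isClosedMap _ (j ''ᵁ d.locus a).isOpen.isClosed_compl
  refine ⟨⟨Cᶜ, hC.isOpen_compl⟩, ?_, ?_⟩
  · rintro ⟨x, hx, rfl⟩
    obtain ⟨w, hw⟩ := show x ∈ Set.range (f.fiberι (f.base x)) by rw [Scheme.Hom.range_fiberι]; rfl
    refine hx ⟨k w, hfib w, ?_⟩
    exact (congrArg (fun q : f.fiber (f.base x) ⟶ X => q w) hk).trans hw
  let U : Y.Opens := ⟨Cᶜ, hC.isOpen_compl⟩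
  have hU : ∀ x : X, x ∈ f ⁻¹ᵁ U → x ∈ j ''ᵁ d.locus a := fun x hx => by
    by_contra h
    exact hx ⟨x, h, rfl⟩
  let l : (f ⁻¹ᵁ U).toScheme ⟶ (f ⁻¹ᵁ V).toScheme := IsOpenImmersion.lift j (f ⁻¹ᵁ U).ι (by
    rintro _ ⟨x, rfl⟩
    obtain ⟨x', -, hx'⟩ := hU _ x.2
    exact ⟨x', hx'⟩)
  have hl : l ≫ j = (f ⁻¹ᵁ U).ι := IsOpenImmersion.lift_fac _ _ _
  have htU : Cube.Triv (d.comap l) := by
    refine ⟨d.pullSect l (le_top : (⊤ : (f ⁻¹ᵁ U).toScheme.Opens) ≤ l ⁻¹ᵁ ⊤) a, ?_⟩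
    rw [d.locus_pullSect l a, top_le_iff.symm]
    intro x _
    obtain ⟨x', hx'm, hx'⟩ := hU _ x.2
    have : l x = x' := j.isOpenEmbedding.injective
      ((congrArg (fun q : (f ⁻¹ᵁ U).toScheme ⟶ X => q x) hl).trans hx'.symm)
    show l x ∈ d.locus a
    rw [this]
    exact hx'm
  have hcU : Cube.Triv (c.comap (f ⁻¹ᵁ U).ι) := by
    rw [← Cube.cls_eq_one_iff, ← Cube.pull_cls, ← hl, ← Cube.pull_comp, Cube.pull_cls _ c, Cube.pull_cls,
      Cube.cls_eq_one_iff]
    exact htU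
  obtain ⟨eU⟩ := c.nonempty_pullback_twist (f ⁻¹ᵁ U).ι 1
  obtain ⟨tU⟩ := (Cube.triv_iff _).1 hcU
  exact ⟨eU ≪≫ tU⟩

end GrothLib.Seesaw26
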