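import Groth.Agent.Lib.Seesaw26.TrivOpen
import Groth.Agent.Lib.CurveMult.BaseChangeH
import Groth.Agent.Lib.Cube.AbVar
import Groth.Agent.Lib.CurveLocus.Basic

/-!
# Invertible modules on a product with a factor with `H¹(O) = 0`
-/

set_option autoImplicit false
set_option linter.style.haveILetI false
set_option backward.isDefEq.respectTransparency false
set_option maxHeartbeats 1000000
universe u

noncomputable section

open CategoryTheory CategoryTheory.Limits AlgebraicGeometry Opposite TopologicalSpace
open GrothLib.Ample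

namespace GrothLib.Seesaw26

variable {k : Type u} [Field k] {S T : Scheme.{u}} (s : S ⟶ Spec (CommRingCat.of k))
  (t : T ⟶ Spec (CommRingCat.of k))

/-- The fibres of `S × T → S` are base changes of `T`. -/
theorem isPullback_fiber_fst (y : S) :
    IsPullback ((pullback.fst s t).fiberι y ≫ pullback.snd s t) ((pullback.fst s t).fiberToSpecResidueField y) t
      (S.fromSpecResidueField y ≫ s) := by
  have H1 : IsPullback ((pullback.fst s t).fiberι y) ((pullback.fst s t).fiberToSpecResidueField y)
      (pullback.fst s t) (S.fromSpecResidueField y) := IsPullback.of_hasPullback _ _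
  exact H1.paste_horiz ((IsPullback.of_hasPullback s t).flip)

theorem fiberRank_structure_fst [IsProper t] (p : ℕ) (y : S) :
    (letI : T.Over (Spec (CommRingCat.of k)) := ⟨t⟩;
      CohIII.fiberRank (pullback.fst s t) (Coh.structureModule (pullback s t)) p y =
        Module.finrank k (Coh.HH T (Coh.structureModule T) p)) := by
  letI : T.Over (Spec (CommRingCat.of k)) := ⟨t⟩
  let φ : CommRingCat.of k ⟶ S.residueField y := Spec.preimage (S.fromSpecResidueField y ≫ s)
  have hφ : Spec.map φ = S.fromSpecResidueField y ≫ s := Spec.map_preimage _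
  let Z := (pullback.fst s t).fiber y
  letI : Z.Over (Spec (CommRingCat.of (S.residueField y))) := ⟨(pullback.fst s t).fiberToSpecResidueField y⟩
  haveI : IsSeparated (T ↘ Spec (CommRingCat.of k)) := inferInstanceAs (IsSeparated t)
  haveI : QuasiCompact (T ↘ Spec (CommRingCat.of k)) := inferInstanceAs (QuasiCompact t)
  have H : IsPullback ((pullback.fst s t).fiberι y ≫ pullback.snd s t) (Z ↘ Spec (CommRingCat.of (S.residueField y)))
      (T ↘ Spec (CommRingCat.of k)) (Spec.map (CommRingCat.ofHom φ.hom)) := by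
    rw [show CommRingCat.ofHom φ.hom = φ from rfl, hφ]
    exact isPullback_fiber_fst s t y
  rw [← CurveMult.finrank_HH_structure_baseChange φ.hom _ H p]
  obtain ⟨e, he⟩ := BCCoh.exists_hh_equiv (B := S.residueField y) ((pullback.fst s t).fiberToSpecResidueField y)
    (PicLoc.pullbackStructureIso ((pullback.fst s t).fiberι y)) p
  exact (e.toLinearEquiv he).finrank_eq

variable [IsProper t] [GeometricallyIntegral t] [ConnectedSpace S]
  (σ : Spec (CommRingCat.of k) ⟶ S) (hσ : σ ≫ s = 𝟙 _)

include σ hσ

theorem exists_box (h1 : Subsingleton (Coh.HH T (Coh.structureModule T) 1))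
    (N : (pullback s t).Modules) (hN : PicF.IsInvertible N) :
    ∃ (L : S.Modules) (M : T.Modules) (hL : PicF.IsInvertible L) (hM : PicF.IsInvertible M),
      Cube.clsMod hN = Cube.pull (pullback.fst s t) (Cube.clsMod hL) * Cube.pull (pullback.snd s t) (Cube.clsMod hM) := by
  haveI : LocallyOfFinitePresentation t := inferInstance
  haveI : LocallyOfFinitePresentation (pullback.fst s t) :=
    MorphismProperty.pullback_fst s t (inferInstance : LocallyOfFinitePresentation t)
  haveI : Flat (pullback.fst s t) :=
    MorphismProperty.pullback_fst s t (CurveLocus.flat_to_spec_field t : Flat t)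
  let pS := pullback.fst s t
  let τ : T ⟶ pullback s t := pullback.lift (t ≫ σ) (𝟙 T) (by rw [Category.assoc, hσ, Category.comp_id, Category.id_comp])
  have hM := Ample.isInvertible_pullback τ hN
  obtain ⟨c, ⟨e⟩⟩ := exists_cocycle hN
  let d := c.comap τ
  let Q := (c.prod (Cube.inv (d.comap (pullback.snd s t)))).twist 1
  have hQ : PicF.IsInvertible Q := (c.prod (Cube.inv (d.comap (pullback.snd s t)))).isInvertible_twist 1
  have hdM : Cube.clsMod hM = Cube.cls d := by rw [Cube.clsMod_pullback τ hN, Cube.clsMod_eq hN e]; rfl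
  have hinv : Cube.cls (Cube.inv (d.comap (pullback.snd s t))) * Cube.cls (d.comap (pullback.snd s t)) = 1 := by
    rw [← Cube.cls_prod]; exact Quotient.sound (Cube.eqv_prod_inv _)
  have hQc : Cube.clsMod hQ * Cube.pull (pullback.snd s t) (Cube.clsMod hM) = Cube.clsMod hN := by
    rw [hdM, Cube.clsMod_eq hQ (Iso.refl _), Cube.clsMod_eq hN e, Cube.cls_prod, Cube.pull_cls, mul_assoc, hinv,
      _root_.mul_one]
  -- the rational point
  obtain ⟨⟨y₀, ψ⟩, hψ⟩ := (Scheme.SpecToEquivOfField k S).symm.surjective σ
  have hψ' : Spec.map ψ ≫ S.fromSpecResidueField y₀ = σ := hψ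
  let ι₀ := S.fromSpecResidueField y₀
  haveI : IsIso ψ := by
    refine (ConcreteCategory.isIso_iff_bijective ψ).2 ⟨ψ.hom.injective, fun a => ?_⟩
    let φ : CommRingCat.of k ⟶ S.residueField y₀ := Spec.preimage (ι₀ ≫ s)
    have : φ ≫ ψ = 𝟙 _ := Spec.map_injective (by
      rw [Spec.map_comp, Spec.map_preimage, ← Category.assoc, hψ', hσ, Spec.map_id])
    exact ⟨φ a, congr($this a)⟩
  have hι₀ : ι₀ ≫ s ≫ σ = ι₀ := by
    rw [← cancel_epi (Spec.map ψ), ← Category.assoc (Spec.map ψ), hψ', ← Category.assoc σ, hσ, Category.id_comp]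
  have hfib : Nonempty ((Scheme.Modules.pullback (pS.fiberι y₀)).obj Q ≅ Coh.structureModule (pS.fiber y₀)) := by
    refine (Cube.clsMod_eq_one_iff (Ample.isInvertible_pullback _ hQ)).1 ?_
    have hfac : (pS.fiberι y₀ ≫ pullback.snd s t) ≫ τ = pS.fiberι y₀ := by
      apply pullback.hom_ext
      · rw [Category.assoc, pullback.lift_fst, pS.fiber_fac y₀, Category.assoc, ← Category.assoc (pullback.snd s t),
          ← pullback.condition, Category.assoc, ← Category.assoc (pS.fiberι y₀), pS.fiber_fac y₀, Category.assoc,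
          hι₀]
      · rw [Category.assoc, pullback.lift_snd, Category.comp_id]
    have e1 := congrArg (Cube.pull (pS.fiberι y₀)) hQc
    rw [map_mul, Cube.pull_comp, ← Cube.clsMod_pullback _ hQ, Cube.clsMod_pullback τ hN, Cube.pull_comp, hfac] at e1
    exact mul_eq_right.1 e1
  obtain ⟨L, hL, ⟨i⟩⟩ := exists_base_of_h1_zero pS
    (fun y => by
      rw [fiberRank_structure_fst s t 1 y]
      letI : T.Over (Spec (CommRingCat.of k)) := ⟨t⟩
      haveI := h1
      exact Module.finrank_zero_of_subsingleton) Q hQ y₀ hfib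
  refine ⟨L, _, hL, hM, ?_⟩
  rw [← hQc, ← Cube.clsMod_pullback pS hL]
  exact congrArg (· * _) ((Cube.clsMod_eq_iff hQ (Ample.isInvertible_pullback pS hL)).2 ⟨i⟩)

/-- Uniqueness of the factors. -/
theorem box_injective {L L' : S.Modules} {M M' : T.Modules} (hL : PicF.IsInvertible L) (hL' : PicF.IsInvertible L')
    (hM : PicF.IsInvertible M) (hM' : PicF.IsInvertible M')
    (h : Cube.pull (pullback.fst s t) (Cube.clsMod hL) * Cube.pull (pullback.snd s t) (Cube.clsMod hM) =
      Cube.pull (pullback.fst s t) (Cube.clsMod hL') * Cube.pull (pullback.snd s t) (Cube.clsMod hM')) :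
    Nonempty (L ≅ L') ∧ Nonempty (M ≅ M') := by
  haveI : LocallyOfFinitePresentation t := inferInstance
  haveI : LocallyOfFinitePresentation (pullback.fst s t) :=
    MorphismProperty.pullback_fst s t (inferInstance : LocallyOfFinitePresentation t)
  haveI : Flat (pullback.fst s t) :=
    MorphismProperty.pullback_fst s t (CurveLocus.flat_to_spec_field t : Flat t)
  let τ : T ⟶ pullback s t := pullback.lift (t ≫ σ) (𝟙 T) (by rw [Category.assoc, hσ, Category.comp_id, Category.id_comp])
  have e := congrArg (Cube.pull τ) h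
  have hc : ∀ x : Cube.Pic S, Cube.pull (t ≫ σ) x = 1 := fun x => by
    rw [← Cube.pull_comp, Cube.pic_spec_field_eq_one (F := k) (Cube.pull σ x), map_one]
  simp only [map_mul, Cube.pull_comp, τ, pullback.lift_fst, pullback.lift_snd, hc, Cube.pull_id,
    _root_.one_mul] at e
  refine ⟨nonempty_iso_of_pullback_iso (pullback.fst s t) hL hL' ?_, (Cube.clsMod_eq_iff hM hM').1 e⟩
  rw [e, mul_left_inj, ← Cube.clsMod_pullback _ hL, ← Cube.clsMod_pullback _ hL'] at h
  exact (Cube.clsMod_eq_iff _ _).1 h

end GrothLib.Seesaw26
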