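import Groth.Agent.Lib.BCCrit.CechBC
import Groth.Agent.Lib.BCCrit.Theta
import Groth.Agent.Lib.BCCrit.Reduced
import Groth.Agent.Lib.BCCoh.FibreAffine

/-!
# A global section which does not vanish on a fibre
-/

set_option autoImplicit false
set_option linter.style.haveILetI false
set_option backward.isDefEq.respectTransparency false
set_option maxHeartbeats 1000000
universe u

noncomputable section

open CategoryTheory CategoryTheory.Limits AlgebraicGeometry Opposite TopologicalSpace TensorProduct

namespace GrothLib.Seesaw26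

open GrothLib.BCCoh GrothLib.BCCrit

variable {A : Type u} [CommRing A] {X X' : Scheme.{u}} {f : X ⟶ Spec (CommRingCat.of A)} {F : X.Modules}
  [F.IsQuasicoherent]

theorem exists_unit_app_ne_zero (m : Model f F) (x : PrimeSpectrum A) (K : Type u) [Field K] (ψ : A →+* K)
    (hker : RingHom.ker ψ = x.asIdeal) (f' : X' ⟶ Spec (CommRingCat.of K)) (g : X' ⟶ X)
    (H : IsPullback g f' f (Spec.map (CommRingCat.ofHom ψ)))
    (hgood : Good m.L ((0 : ℕ) : ℤ) x) (hpos : 0 < CohIII.dRank m.L ((0 : ℕ) : ℤ) x) :
    ∃ s : Γ(F, ⊤), ((Scheme.Modules.pullbackPushforwardAdjunction g).unit.app F).app ⊤ s ≠ 0 := by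
  by_contra hall
  push Not at hall
  letI : Algebra A K := ψ.toAlgebra
  haveI : IsAffineHom g := isAffineHom_bc ψ f f' g H
  have hG : (GG g F).IsQuasicoherent :=
    haveI := FittSheaf.isQuasicoherent_pullback g F
    QCoh.isQuasicoherent_pushforward g _
  let η : F ⟶ GG g F := (Scheme.Modules.pullbackPushforwardAdjunction g).unit.app F
  obtain ⟨e, -, hen⟩ := exists_linearEquiv f m.U m.cover m.aff 0
  have hz0 : ∀ z, (HomologicalComplex.homologyMap (cxMap f m.U η) 0).hom z = 0 := fun z => by
    obtain ⟨w, rfl⟩ := (e F inferInstance).surjective z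
    refine (hen η inferInstance hG w).symm.trans ?_
    refine (congrArg (e (GG g F) hG) ?_).trans (map_zero _)
    let Eq0 := fun (G : X.Modules) =>
      (show Coh.HH X G 0 ≃+ Γ(G, ⊤) from Sheaf.H.equiv₀ (Coh.toAb G) (T := (⊤ : X.Opens)) isTerminalTop)
    refine (Eq0 (GG g F)).injective ?_
    rw [map_zero]
    refine Eq.trans ?_ (hall (Eq0 F w))
    exact (Sheaf.H.equiv₀_naturality isTerminalTop ((SheafOfModules.toSheaf X.ringCatSheaf).map η) w).symm
  have hcx : ∀ t, ((CohIII.TFun (cx f m.U F) 0).map (oneB (A := A) (B := K))).hom t = 0 := fun t => by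
    have h := congrArg (fun q => HomologicalComplex.homologyMap q 0) (tensorBIso_one f f' g H F m.U m.aff)
    simp only [HomologicalComplex.homologyMap_comp] at h
    refine ((HomologicalComplex.homologyMapIso (tensorBIso f f' g H F m.U m.aff) 0).toLinearEquiv.injective ?_)
    rw [map_zero]
    refine (ConcreteCategory.congr_hom h t).trans ?_
    exact hz0 _
  have hL : ∀ t, ((CohIII.TFun m.L ((0 : ℕ) : ℤ)).map (oneB (A := A) (B := K))).hom t = 0 := fun t => by
    refine ((theta m 0).app (ModuleCat.of A K)).toLinearEquiv.injective ?_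
    rw [map_zero]
    refine (ConcreteCategory.congr_hom ((theta m 0).hom.naturality (oneB (A := A) (B := K))) t).trans ?_
    exact hcx _
  have hsurj := (good_iff_surjective_of_residue m.L m.finFree ((0 : ℕ) : ℤ) x K
    (fun a ha => isUnit_iff_ne_zero.2 fun h0 => ha (hker.le h0)) (fun a ha => hker.ge ha)).1 hgood
  have hzero : ∀ z, cmpT m.L ((0 : ℕ) : ℤ) (ModuleCat.of A K) z = 0 := fun z => by
    induction z using TensorProduct.induction_on with
    | zero => exact map_zero _
    | add a b ha hb => exact (map_add _ a b).trans (by rw [ha, hb, add_zero])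
    | tmul t b =>
      rw [cmpT_tmul]
      have e : smulTo (ModuleCat.of A K) b = oneB (A := A) (B := K) ≫ mulB b :=
        ModuleCat.hom_ext (LinearMap.ext fun a => by
          show a • b = b * (a • (1 : K))
          rw [mul_smul_comm, mul_one])
      rw [e, Functor.map_comp]
      exact (congrArg (fun v => ((CohIII.TFun m.L ((0 : ℕ) : ℤ)).map (mulB b)).hom v) (hL t)).trans (map_zero _)
  let φ := ψ
  let r : x.asIdeal.ResidueField →+* K := Ideal.ResidueField.lift x.asIdeal φ hker.ge
    (fun a ha => isUnit_iff_ne_zero.2 fun h0 => ha (hker.le h0))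
  have hr : r.comp (algebraMap A x.asIdeal.ResidueField) = φ :=
    RingHom.ext fun a => Ideal.ResidueField.lift_algebraMap x.asIdeal φ hker.ge
      (fun a ha => isUnit_iff_ne_zero.2 fun h0 => ha (hker.le h0)) a
  have hfr : 0 < Module.finrank K ((CohIII.bcCx φ m.L).homology ((0 : ℕ) : ℤ)) := by
    rw [← hr, FlatCx.finrank_homology_bcCx_field _ r m.L ((0 : ℕ) : ℤ)]
    exact hpos
  haveI := Module.nontrivial_of_finrank_pos hfr
  obtain ⟨w, hw⟩ := exists_ne (0 : (CohIII.bcCx φ m.L).homology ((0 : ℕ) : ℤ))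
  have key : ∀ y : CohIII.T m.L ((0 : ℕ) : ℤ) (ModuleCat.of A K), y = 0 := fun y => by
    obtain ⟨z, rfl⟩ := hsurj y
    exact hzero z
  refine hw ((bcTensorH φ m.L ((0 : ℕ) : ℤ)).injective ?_)
  rw [map_zero]
  exact key _

end GrothLib.Seesaw26
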